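import Cfsg.Agent.Ree.PSL.Sat

/-!
`PSLSpec`: the table of `PSL(2, q)` at the section of the involution.
-/

set_option autoImplicit false
set_option linter.unusedSectionVars false
set_option linter.style.haveILetI false

namespace Cfsg.Lib.Ree.PSL

open Cfsg Cfsg.Lib.Blocks Cfsg.Lib.Chars
open scoped ComplexConjugate

universe u v

attribute [local instance] _root_.Classical.propDecidable

variable {X : Type u} [Group X] [Fintype X] {q k M : ℕ} {s : ℤ} (G : Geo X q k M) (R : Rows X q M s)

theorem Geo.pair_inner (G : Geo X q k M) (hp : Par q k M s) (c : Fin 4 → ℂ)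
    (hev : ∀ g : X, ¬ Odd (orderOf g) → R.comb c g = 0) :
    classInner pairCount (R.comb c) =
      (q : ℂ) * M / (2 * k) * (conj (c 0) + conj (c 1) / q + (conj (c 2) + conj (c 3)) / M) := by
  set cl := Finset.univ.filter (IsConj G.v) with hcl
  have hinv : ∀ g : X, g ∈ cl ↔ orderOf g = 2 := fun g => by
    simp only [cl, Finset.mem_filter, Finset.mem_univ, true_and]
    refine ⟨fun h => ?_, fun h => G.one _ _ G.v_ord h⟩
    obtain ⟨d, hd⟩ := isConj_iff.1 h
    rw [← hd, ← MulAut.conj_apply, MulEquiv.orderOf_eq]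
    exact G.v_ord
  have hstep : ∑ y, pairCount y * conj (R.comb c y) = 2 * ∑ w ∈ cl, ∑ z ∈ cl, conj (R.comb c (w * z)) := by
    have e : ∀ y, pairCount y * conj (R.comb c y) =
        2 * ∑ w ∈ cl, if (w * y) * (w * y) = 1 then conj (R.comb c y) else 0 := fun y => by
      rw [pairCount, Nat.card_eq_fintype_card, Fintype.card_subtype, ← Finset.sum_filter, Finset.sum_const,
        nsmul_eq_mul, show cl.filter (fun w => (w * y) * (w * y) = 1) =
          Finset.univ.filter (fun w : X => orderOf w = 2 ∧ (w * y) * (w * y) = 1) from Finset.ext fun w => by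
        simp [hinv]]
      ring
    rw [Finset.sum_congr rfl fun y _ => e y, ← Finset.mul_sum, Finset.sum_comm]
    congr 1
    refine Finset.sum_congr rfl fun w hw => ?_
    have hw2 : w * w = 1 := by rw [← pow_two, ← (hinv w).1 hw, pow_orderOf_eq_one]
    rw [← Equiv.sum_comp (Equiv.mulLeft w) (fun y => if (w * y) * (w * y) = 1 then conj (R.comb c y) else 0),
      ← Finset.sum_filter_add_sum_filter_not Finset.univ (fun z => z ∈ cl),
      Finset.sum_eq_zero (s := Finset.univ.filter fun z => ¬ z ∈ cl) fun z hz => ?_, add_zero]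
    · refine Finset.sum_congr (Finset.filter_univ_mem cl) fun z hz => ?_
      show (if (w * (w * z)) * (w * (w * z)) = 1 then _ else 0) = _
      rw [← mul_assoc w w z, hw2, one_mul, if_pos (by rw [← pow_two, ← (hinv z).1 hz, pow_orderOf_eq_one])]
      rfl
    · show (if (w * (w * z)) * (w * (w * z)) = 1 then _ else 0) = 0
      rw [← mul_assoc w w z, hw2, one_mul]
      split_ifs with h1
      · have hz1 : z = 1 := by
          by_contra hne
          exact (Finset.mem_filter.1 hz).2 ((hinv z).2 (orderOf_eq_prime (by rw [pow_two]; exact h1) hne))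
        show conj (R.comb c (w * z)) = 0
        rw [hz1, mul_one, hev w (by rw [(hinv w).1 hw]; decide), map_zero]
      · rfl
  have hχ : ∀ i, ∑ w ∈ cl, ∑ z ∈ cl, conj ((R.mem i : X → ℂ) (w * z)) =
      ((q * M : ℕ) : ℂ) * (q * M : ℕ) * ((R.mem i : X → ℂ) G.v * (R.mem i : X → ℂ) G.v) /
        (R.mem i : X → ℂ) 1 := fun i => by
    rw [Finset.sum_congr rfl fun w hw => Finset.sum_congr rfl fun z hz => show conj ((R.mem i : X → ℂ) (w * z)) =
        (R.mem i : X → ℂ) (w * z * 1) by
      have hw2 : w * w = 1 := by rw [← pow_two, ← (hinv w).1 hw, pow_orderOf_eq_one]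
      have hz2 : z * z = 1 := by rw [← pow_two, ← (hinv z).1 hz, pow_orderOf_eq_one]
      rw [← IsCharacter.conj_inv (isCharacter_of_irr (R.mem i).2), _root_.mul_inv_rev,
        inv_eq_of_mul_eq_one_right hw2, inv_eq_of_mul_eq_one_right hz2, mul_one,
        classFunction_mul_comm (isClassFunction_irr (R.mem i))]]
    rw [hcl, sum_class_products (R.mem i).2, G.class_count hp]
    have := IsIrrCharacter.apply_one_ne_zero (R.mem i).2
    field_simp
  have hcomb : ∑ w ∈ cl, ∑ z ∈ cl, conj (R.comb c (w * z)) =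
      ∑ i, conj (c i) * ∑ w ∈ cl, ∑ z ∈ cl, conj ((R.mem i : X → ℂ) (w * z)) := by
    simp only [Finset.mul_sum, Rows.comb, map_sum, map_mul]
    rw [Finset.sum_congr rfl fun w _ => Finset.sum_comm, Finset.sum_comm]
  have hsq : ∀ i, (R.mem i : X → ℂ) G.v * (R.mem i : X → ℂ) G.v = 1 := fun i => by
    obtain ⟨h1, h2, h3⟩ := R.even G.v G.even_v
    have hs := hp.s_sq
    fin_cases i <;> simp [Rows.mem, h1, h2, h3, principal_apply, hs]
  have hcard : (Nat.card X : ℂ) = ((q * M : ℕ) : ℂ) * (4 * k) := by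
    have h := card_isConj_mul G.v
    rw [G.card_C, G.class_count hp] at h
    rw [← h]
    push_cast
    ring
  have hqn : (q : ℂ) ≠ 0 := by
    have := hp.q_eq; have := G.k_pos; have := hp.s_cases
    exact_mod_cast (by omega : q ≠ 0)
  have hMn : (M : ℂ) ≠ 0 := by
    have := hp.M_eq; have := G.k_pos; have := hp.s_cases
    exact_mod_cast (by omega : M ≠ 0)
  have hk := G.k_ne
  rw [classInner_def, hstep, hcomb, Finset.sum_congr rfl fun i _ => by rw [hχ i, hsq i], hcard]
  simp only [Fin.sum_univ_four, irr_apply_one_eq_deg, show R.mem 0 = principal X from rfl,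
    show R.mem 1 = R.St from rfl, show R.mem 2 = R.a from rfl, show R.mem 3 = R.b from rfl, R.deg_St, R.deg_a,
    R.deg_b, deg_principal]
  push_cast
  field_simp
  ring

/-- The table. -/
theorem exists_table_rows (G : Geo X q k M) (hp : Par q k M s) (Q : ℤ) (hQ : Q = s * q) :
    ∃ (Tb : PSLTable X Q) (R : Rows X q M s), Tb.x = R.x := by
  obtain ⟨R⟩ := exists_rows G hp
  have hs := hp.s_sq
  have hk := G.k_ne
  have hq : (Q : ℂ) = s * q := by rw [hQ]; push_cast; ring
  have hsign : (Q.sign : ℂ) = s := by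
    have h : Q.sign = s := by
      have := hp.q_eq; have := G.k_pos
      rcases hp.s_cases with h | h <;> rw [h] at hQ ⊢
      · rw [Int.sign_eq_one_of_pos (by omega)]
      · rw [Int.sign_eq_neg_one_of_neg (by omega)]
    rw [h]
  have hhalf : (((Q + 1) / 2 : ℤ) : ℂ) = (s : ℂ) * M := by
    have h : (Q + 1) / 2 = s * M := by
      have := hp.q_eq; have := hp.M_eq
      rcases hp.s_cases with h | h <;> rw [h] at hQ ⊢ <;> omega
    rw [h]
    push_cast
    rfl
  have hxe : ∀ g : X, ¬ Odd (orderOf g) → R.x g = 0 := fun g hg => by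
    rw [Rows.x, R.comb_even _ hg]; simp; linear_combination hs
  have hale : ∀ g : X, ¬ Odd (orderOf g) → R.al g = 0 := fun g hg => by
    rw [Rows.al, R.comb_even _ hg]; simp
  have hbee : ∀ g : X, ¬ Odd (orderOf g) → R.be g = 0 := fun g hg => by
    rw [Rows.be, R.comb_even _ hg]; simp
  have hgx : IsGeneralizedCharacter X R.x := by
    convert R.gen_comb ![-1, s, 0, 0] using 1
    rw [Rows.x]; congr 1; funext i; fin_cases i <;> simp
  have hga : IsGeneralizedCharacter X R.al := by
    convert R.gen_comb ![0, s, s, 0] using 1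
    rw [Rows.al]; congr 1; funext i; fin_cases i <;> simp
  have hgb : IsGeneralizedCharacter X R.be := by
    convert R.gen_comb ![0, s, 0, s] using 1
    rw [Rows.be]; congr 1; funext i; fin_cases i <;> simp
  have hmem0 : (fun _ : X => (1 : ℂ)) = (R.mem 0 : X → ℂ) := rfl
  refine ⟨{
    x := R.x, al := R.al, be := R.be, A := R.A, B := R.B
    spec_x := ⟨R.class_comb _, hgx, hxe⟩
    spec_al := ⟨R.class_comb _, hga, hale⟩
    spec_be := ⟨R.class_comb _, hgb, hbee⟩
    class_A := R.class_comb _
    class_B := R.class_comb _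
    inner_xx := ?_, inner_aa := ?_, inner_bb := ?_, inner_xa := ?_, inner_xb := ?_, inner_ab := ?_
    inner_x_one := ?_, inner_al_one := ?_, inner_be_one := ?_, dual := ?_, A_one := ?_, B_one := ?_
    conj_x := ?_, conj_table := ?_, block := ?_, count_x := ?_, count_al := ?_, count_be := ?_
    v := G.v, K := G.K, v_ord := G.v_ord, card_K := ?_, cyclic := G.cyclic, comm := G.comm, torus := ?_
    phi := G.phi R, phi_spec := ?_, phi_block := ?_, phi_orth := ?_
    J := G.J R hp
    psi := fun j => ((j.1 : IrrCharacter X) : X → ℂ)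
    psi_spec := ?_, psi_block := ?_, complete := ?_ }, R, rfl⟩
  · rw [Rows.x, R.inner_comb_comb]; simp [Fin.sum_univ_four]; linear_combination hs
  · rw [Rows.al, R.inner_comb_comb]; simp [Fin.sum_univ_four]; linear_combination 2 * hs
  · rw [Rows.be, R.inner_comb_comb]; simp [Fin.sum_univ_four]; linear_combination 2 * hs
  · rw [Rows.x, Rows.al, R.inner_comb_comb]; simp [Fin.sum_univ_four]; linear_combination hs
  · rw [Rows.x, Rows.be, R.inner_comb_comb]; simp [Fin.sum_univ_four]; linear_combination hs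
  · rw [Rows.al, Rows.be, R.inner_comb_comb]; simp [Fin.sum_univ_four]; linear_combination hs
  · rw [hmem0, Rows.x, R.inner_mem]; rfl
  · rw [hmem0, Rows.al, R.inner_mem]; rfl
  · rw [hmem0, Rows.be, R.inner_mem]; rfl
  · simp only [Rows.A, Rows.B, Rows.x, Rows.al, Rows.be, R.inner_comb_comb]
    simp [Fin.sum_univ_four, hs]
  · rw [hhalf, Rows.A, R.comb_apply, irr_apply_one_eq_deg, irr_apply_one_eq_deg, irr_apply_one_eq_deg, R.deg_a]
    simp
  · rw [hhalf, Rows.B, R.comb_apply, irr_apply_one_eq_deg, irr_apply_one_eq_deg, irr_apply_one_eq_deg, R.deg_b]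
    simp
  · intro y
    rw [Rows.x, R.comb_apply]
    simp [R.conj_St]
  · rcases R.conj_ab with h | h
    · refine Or.inl fun y => ?_
      rw [Rows.al, Rows.be, R.comb_apply, R.comb_apply]
      simp [R.conj_St, (h y).1, (h y).2]
    · refine Or.inr fun y => ?_
      rw [Rows.al, Rows.be, R.comb_apply, R.comb_apply]
      simp [R.conj_St, (h y).1, (h y).2]
  · intro Mi hMi f _ y hy
    rw [blockPart_eq_sum, show Finset.univ.filter (· ∈ principalBlock Mi X) = Finset.univ.image R.mem from
      Finset.ext fun χ => by simp [R.mem_block hMi], Finset.sum_image fun i _ j _ e => R.mem_injective e,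
      Fin.sum_univ_four, Rows.x, Rows.al, Rows.be, Rows.A, Rows.B, R.inner_comb, R.inner_comb, R.inner_comb,
      R.comb_apply, R.comb_apply]
    simp only [show R.mem 0 = principal X from rfl, show R.mem 1 = R.St from rfl, show R.mem 2 = R.a from rfl,
      show R.mem 3 = R.b from rfl, principal_apply]
    simp [Fin.sum_univ_four, show R.mem 0 = principal X from rfl, show R.mem 1 = R.St from rfl,
      show R.mem 2 = R.a from rfl, show R.mem 3 = R.b from rfl, principal_apply]
    linear_combination (s : ℂ) * classInner f (R.St : X → ℂ) * R.odd y hy -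
      (classInner f (R.St : X → ℂ) * (R.St : X → ℂ) y + classInner f (R.a : X → ℂ) * (R.a : X → ℂ) y
        + classInner f (R.b : X → ℂ) * (R.b : X → ℂ) y) * hs
  · rw [Rows.x, G.pair_inner R hp _ hxe, hsign, hq, hp.q_eqC, hp.M_eqC]
    simp
    have hqn : (4 * (k : ℂ) + s) ≠ 0 := by
      rw [← hp.q_eqC]
      have := hp.q_eq; have := G.k_pos; have := hp.s_cases
      exact_mod_cast (by omega : q ≠ 0)
    field_simp
    linear_combination (2 * (k : ℂ) * s + 8 * (k : ℂ) ^ 2) * hs
  · rw [Rows.al, G.pair_inner R hp _ hale, hsign, hq]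
    simp
    have hqn : (q : ℂ) ≠ 0 := by
      have := hp.q_eq; have := G.k_pos; have := hp.s_cases
      exact_mod_cast (by omega : q ≠ 0)
    have hMn : (M : ℂ) ≠ 0 := by
      have := hp.M_eq; have := G.k_pos; have := hp.s_cases
      exact_mod_cast (by omega : M ≠ 0)
    have hQ1 : (s : ℂ) * q - 1 = 4 * s * k := by rw [hp.q_eqC]; linear_combination hs
    have hs0 : (s : ℂ) ≠ 0 := fun h => by rw [h] at hs; simp at hs
    rw [hQ1]
    field_simp
    rw [hp.q_eqC, hp.M_eqC]
    rcases hp.s_cases with h | h <;> subst h <;> push_cast <;> ring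
  · rw [Rows.be, G.pair_inner R hp _ hbee, hsign, hq]
    simp
    have hqn : (q : ℂ) ≠ 0 := by
      have := hp.q_eq; have := G.k_pos; have := hp.s_cases
      exact_mod_cast (by omega : q ≠ 0)
    have hMn : (M : ℂ) ≠ 0 := by
      have := hp.M_eq; have := G.k_pos; have := hp.s_cases
      exact_mod_cast (by omega : M ≠ 0)
    have hQ1 : (s : ℂ) * q - 1 = 4 * s * k := by rw [hp.q_eqC]; linear_combination hs
    have hs0 : (s : ℂ) ≠ 0 := fun h => by rw [h] at hs; simp at hs
    rw [hQ1]
    field_simp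
    rw [hp.q_eqC, hp.M_eqC]
    rcases hp.s_cases with h | h <;> subst h <;> push_cast <;> ring
  · rw [G.card_K]
    have := hp.q_eq
    rcases hp.s_cases with h | h <;> rw [h] at hQ this <;> omega
  · intro y hy hy1
    obtain ⟨h1, h2, h3⟩ := G.value_K R hp ⟨y, hy⟩ (fun e => hy1 (congrArg Subtype.val e))
    simp only [Rows.A, Rows.B, Rows.x, Rows.al, Rows.be, R.comb_apply]
    simp at h1 h2 h3
    simp [h1, h2, h3, hs]
    norm_num
  · intro θ hθ
    refine ⟨⟨isClassFunction_generalized (G.phi_gen R θ), G.phi_gen R θ, fun y => G.phi_even R hp θ⟩, ?_, ?_, ?_,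
      ?_, ?_, fun y hy hy1 => ?_⟩
    · rw [Geo.phi, classInner_add_left, classInner_add_right, classInner_add_right, G.e_e R hp hθ hθ,
        G.e_e R hp hθ hθ, G.e_e R hp hθ hθ, G.e_e R hp hθ hθ]
      simp [(G.inv_ne hθ).symm]
      norm_num
    · rw [Geo.phi, classInner_add_left, Rows.x, G.e_comb R hp hθ, G.e_comb R hp hθ, add_zero]
    · rw [Geo.phi, classInner_add_left, Rows.al, G.e_comb R hp hθ, G.e_comb R hp hθ, add_zero]
    · rw [Geo.phi, classInner_add_left, Rows.be, G.e_comb R hp hθ, G.e_comb R hp hθ, add_zero]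
    · rw [Geo.phi, Pi.add_apply, G.e_one R hp, G.e_one R hp, hq]
      ring
    · have e := fun b => G.e_tmap R hp θ b false ⟨y, hy⟩ (Or.inr fun e => hy1 (congrArg Subtype.val e))
      show G.e R θ false y + G.e R θ true y = _
      have e0 := e false
      have e1 := e true
      simp only [Geo.tmap, Bool.false_eq_true, if_false, one_mul] at e0 e1
      rw [e0, e1]
      ring
  · intro Mi hMi θ hθ χ hχ
    obtain ⟨i, rfl⟩ := (R.mem_block hMi χ).1 hχ
    rw [Geo.phi, classInner_add_left, G.e_block R hp hθ, G.e_block R hp hθ, add_zero]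
  · intro θ θ' hθ hθ' h1 h2
    rw [Geo.phi, Geo.phi, classInner_add_left, classInner_add_right, classInner_add_right, G.e_e R hp hθ hθ',
      G.e_e R hp hθ hθ', G.e_e R hp hθ hθ', G.e_e R hp hθ hθ']
    have h3 : θ ≠ θ'⁻¹ := fun e => h2 (MonoidHom.ext fun y => by simp [e])
    simp [Ne.symm h1, h3]
  · intro j
    refine ⟨⟨isClassFunction_irr j.1, IsCharacter.isGeneralized (isCharacter_of_irr j.1.2),
      fun y => G.J_even R hp j.2⟩, classInner_irr_self _, fun y hy hy1 => ?_⟩
    have := G.J_vanish R hp j.2 false ⟨y, hy⟩ (Or.inr fun e => hy1 (congrArg Subtype.val e))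
    simpa [Geo.tmap] using this
  · intro Mi hMi j χ hχ
    obtain ⟨i, rfl⟩ := (R.mem_block hMi χ).1 hχ
    exact classInner_irr_ne (Ne.symm (j.2.1 i))
  · intro f hf hx ha hb hphi hJ
    exact G.complete R hp hf hx ha hb hphi fun χ hχ => hJ ⟨χ, hχ⟩

theorem par_of_card {F : Type v} [Fintype F] (hq : Fintype.card F % 8 = 3 ∨ Fintype.card F % 8 = 5) :
    Par (Fintype.card F) (((Fintype.card F : ℤ) * sgn F - 1) / 4).natAbs
      (((Fintype.card F : ℤ) * sgn F + 1) / 2).natAbs (sgn F) := by
  rw [sgn]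
  rcases hq with h | h
  · rw [if_neg (by omega)]; exact ⟨Or.inr rfl, by omega, by omega⟩
  · rw [if_pos h]; exact ⟨Or.inl rfl, by omega, by omega⟩

theorem exists_table (G : Geo X q k M) (hp : Par q k M s) (Q : ℤ) (hQ : Q = s * q) : Nonempty (PSLTable X Q) :=
  let ⟨Tb, _, _⟩ := exists_table_rows G hp Q hQ
  ⟨Tb⟩

end Cfsg.Lib.Ree.PSL

namespace Cfsg.Lib.Ree

universe u v

/-- The table together with the principal block. -/
theorem pslSpec_rows {F : Type v} [Field F] [Fintype F] {X : Type u} [Group X] [Fintype X]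
    (hq : Fintype.card F % 8 = 3 ∨ Fintype.card F % 8 = 5) (hbig : 11 ≤ Fintype.card F)
    (he : Nonempty (X ≃* Matrix.ProjectiveSpecialLinearGroup (Fin 2) F)) :
    ∃ (Tb : PSLTable X (signedCard F))
      (R : PSL.Rows X (Fintype.card F) (((Fintype.card F : ℤ) * PSL.sgn F + 1) / 2).natAbs (PSL.sgn F)),
      Tb.x = R.x := by
  obtain ⟨e⟩ := he
  obtain ⟨G⟩ := PSL.exists_geo hq hbig e
  exact PSL.exists_table_rows G (PSL.par_of_card hq) (signedCard F) (by
    rw [signedCard, PSL.sgn]
    rcases hq with h | h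
    · rw [if_neg (by omega), if_neg (by omega)]; ring
    · rw [if_pos h, if_pos h]; ring)

/-- The piece. -/
theorem pslSpec : PSLSpec.{u, v} := by
  intro F _ _ X _ _ hq hbig ⟨e⟩
  obtain ⟨G⟩ := PSL.exists_geo hq hbig e
  exact PSL.exists_table G (PSL.par_of_card hq) (signedCard F) (by
    rw [signedCard, PSL.sgn]
    rcases hq with h | h
    · rw [if_neg (by omega), if_neg (by omega)]; ring
    · rw [if_pos h, if_pos h]; ring)

end Cfsg.Lib.Ree
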