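import Cfsg.Agent.Ree.PSL.Torus

/-!
The exceptional characters of the torus `K`: the induced functions minus their parts in the principal block, and the
values of the principal block on `K`.
-/

set_option autoImplicit false
set_option linter.unusedSectionVars false
set_option linter.style.haveILetI false

namespace Cfsg.Lib.Ree.PSL

open Cfsg Cfsg.Lib.Blocks Cfsg.Lib.Chars
open scoped ComplexConjugate

universe u

attribute [local instance] _root_.Classical.propDecidable

variable {X : Type u} [Group X] [Fintype X] {q k M : ℕ} {s : ℤ} (G : Geo X q k M) (R : Rows X q M s)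

theorem Geo.odd_K {y : X} (hy : y ∈ G.K) : Odd (orderOf y) := ((G.comm y).1 hy).1

theorem Geo.even_vK {y : X} (hy : y ∈ G.K) : ¬ Odd (orderOf (G.v * y)) := fun h =>
  G.vK_not_mem hy ((G.comm _).2 ⟨h, (Commute.refl G.v).mul_left (G.comm_v hy)⟩)

theorem Geo.even_v : ¬ Odd (orderOf G.v) := by rw [G.v_ord]; decide

theorem Rows.comb_even (c : Fin 4 → ℂ) {g : X} (hg : ¬ Odd (orderOf g)) :
    R.comb c g = c 0 + (s : ℂ) * (c 1 - c 2 - c 3) := by
  obtain ⟨h1, h2, h3⟩ := R.even g hg
  rw [R.comb_apply, h1, h2, h3]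
  ring

theorem Geo.k_ne (G : Geo X q k M) : (k : ℂ) ≠ 0 := by have := G.k_pos; exact_mod_cast (by omega : k ≠ 0)

theorem Geo.inner_F_split (θ : G.K →* ℂˣ) (b : Bool) {h : X → ℂ} (hh : IsClassFunction X h) (e : ℂ)
    (he : ∀ y : G.K, h (G.v * y) = e) :
    classInner (G.F θ b) h =
      (2 * (k : ℂ))⁻¹ * ((∑ y : G.K, ((θ y : ℂ) - 1) * conj (h y)) +
        bs b * conj e * ∑ y : G.K, ((θ y : ℂ) - 1)) := by
  rw [G.inner_F θ b hh, Finset.mul_sum (a := bs b * conj e), ← Finset.sum_add_distrib]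
  congr 1
  exact Finset.sum_congr rfl fun y _ => by rw [he]; ring

theorem Geo.sum_theta_sub_one {θ : G.K →* ℂˣ} (h : θ ≠ 1) : ∑ y : G.K, ((θ y : ℂ) - 1) = -(k : ℂ) := by
  rw [Finset.sum_sub_distrib, G.theta_sum h, Finset.sum_const, Finset.card_univ, ← Nat.card_eq_fintype_card,
    G.card_K, nsmul_eq_mul]
  ring

theorem Geo.inner_F_one {θ : G.K →* ℂˣ} (h : θ ≠ 1) (b : Bool) :
    classInner (G.F θ b) (R.mem 0 : X → ℂ) = -(1 + bs b) / 2 := by
  rw [G.inner_F_split θ b (h := (R.mem 0 : X → ℂ)) (isClassFunction_irr _) 1 fun y => principal_apply _]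
  simp only [show ∀ y : X, (R.mem 0 : X → ℂ) y = 1 from fun y => principal_apply y, map_one, mul_one,
    G.sum_theta_sub_one h]
  have := G.k_ne
  field_simp
  ring

/-- `1 + s St - s a - s b`. -/
noncomputable def Rows.W : X → ℂ := R.comb ![1, (s : ℂ), -(s : ℂ), -(s : ℂ)]

theorem Geo.inner_F_W (hp : Par q k M s) {θ : G.K →* ℂˣ} (h : θ ≠ 1) (b : Bool) :
    classInner (G.F θ b) R.W = -2 * bs b := by
  have he : ∀ y : G.K, R.W (G.v * y) = 4 := fun y => by
    rw [Rows.W, R.comb_even _ (G.even_vK y.2)]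
    simp
    linear_combination 3 * hp.s_sq
  have ho : ∀ y : G.K, R.W (y : X) = 0 := fun y => by
    rw [Rows.W, R.comb_apply]
    simp
    linear_combination R.odd y (G.odd_K y.2)
  rw [G.inner_F_split θ b (show IsClassFunction X R.W from R.class_comb _) 4 he]
  simp only [ho, map_zero, mul_zero, Finset.sum_const_zero, G.sum_theta_sub_one h, map_ofNat]
  have := G.k_ne
  field_simp
  ring

/-- The coefficients of the part in the principal block. -/
def coef (s : ℤ) : Bool → Fin 4 → ℤ
  | false => ![-1, -s, 0, 0]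
  | true => ![0, 0, -s, -s]

theorem inner_gen_nonneg {f : X → ℂ} (hf : IsGeneralizedCharacter X f) :
    ∃ n : ℕ, classInner f f = (n : ℂ) ∧ (n = 0 → f = 0) := by
  obtain ⟨a, rfl⟩ := exists_int_decomp hf
  refine ⟨(∑ χ, a χ * a χ).toNat, ?_, fun h => ?_⟩
  · rw [classInner_self_decomp]
    have h : (((∑ χ, a χ * a χ).toNat : ℕ) : ℤ) = ∑ χ, a χ * a χ :=
      Int.toNat_of_nonneg (Finset.sum_nonneg fun χ _ => mul_self_nonneg _)
    have h' := congrArg (fun z : ℤ => (z : ℂ)) h
    simp only [Int.cast_natCast, Int.cast_sum, Int.cast_mul] at h'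
    rw [h']
    simp
  · have h0 : ∑ χ, a χ * a χ = 0 :=
      le_antisymm (Int.toNat_eq_zero.1 h) (Finset.sum_nonneg fun χ _ => mul_self_nonneg _)
    refine Finset.sum_eq_zero fun χ _ => ?_
    have := (Finset.sum_eq_zero_iff_of_nonneg fun χ _ => mul_self_nonneg (a χ)).1 h0 χ (Finset.mem_univ χ)
    rw [mul_self_eq_zero.1 this]
    simp

theorem Geo.class_count (G : Geo X q k M) (hp : Par q k M s) :
    Nat.card {x : X // IsConj G.v x} = q * M := by
  have h := card_isConj_mul G.v
  rw [G.card_C] at h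
  have h2 := G.card_X
  rw [← h] at h2
  have hq := hp.q_eq
  have hM := hp.M_eq
  have h1 : 1 ≤ q * q := by rcases hp.s_cases with hs | hs <;> have := G.k_pos <;> nlinarith
  zify [h1] at h2
  have hk : (k : ℤ) ≠ 0 := by have := G.k_pos; omega
  apply Nat.cast_injective (R := ℤ)
  apply mul_left_cancel₀ (mul_ne_zero (show (8 : ℤ) ≠ 0 by norm_num) hk)
  push_cast
  rw [hq, hM] at *
  rcases hp.s_cases with hs | hs <;> subst hs <;> linear_combination h2

/-- The coefficients in the principal block. -/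
theorem Geo.coef_eq (hp : Par q k M s) {θ : G.K →* ℂˣ} (h : θ ≠ 1) (b : Bool) (i : Fin 4) :
    classInner (G.F θ b) (R.mem i : X → ℂ) = (coef s b i : ℂ) := by
  have hex : ∀ b : Bool, ∀ i, ∃ m : ℤ, classInner (G.F θ b) (R.mem i : X → ℂ) = m := fun b i =>
    IsGeneralizedCharacter.exists_mult (G.gen_F θ b) (R.mem i).2
  choose c hc using hex
  have hss : s * s = 1 := by rcases hp.s_cases with hs | hs <;> rw [hs] <;> norm_num
  have c0 : ∀ b, (c b 0 : ℂ) = -(1 + bs b) / 2 := fun b => (hc b 0).symm.trans (G.inner_F_one R h b)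
  have hW : ∀ b, (c b 0 : ℂ) + (s : ℂ) * ((c b 1 : ℂ) - c b 2 - c b 3) = -2 * bs b := fun b => by
    have e := G.inner_F_W R hp h b
    rw [Rows.W, R.inner_comb, Fin.sum_univ_four, hc, hc, hc, hc] at e
    simp at e
    linear_combination e
  set E : Bool → X → ℂ := fun b => G.F θ b - R.comb (fun i => (c b i : ℂ)) with hE
  have hEg : ∀ b, IsGeneralizedCharacter X (E b) := fun b =>
    IsGeneralizedCharacter.sub (G.gen_F θ b) (R.gen_comb (c b))
  have hEv : ∀ b, E b G.v = 2 * bs b := fun b => by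
    have hF : G.F θ b G.v = 0 := by
      have := G.F_vK θ b 1
      simp only [OneMemClass.coe_one, mul_one] at this
      rw [this, Geo.D, map_one, Units.val_one, inv_one]
      ring
    show G.F θ b G.v - R.comb _ G.v = _
    rw [R.comb_even _ G.even_v, hF, hW b]
    ring
  have hEE : ∀ b b', classInner (E b) (E b') =
      classInner (G.F θ b) (G.F θ b') - ∑ i, (c b' i : ℂ) * (c b i : ℂ) := fun b b' => by
    have hconj : ∀ i, classInner (R.mem i : X → ℂ) (G.F θ b') = (c b' i : ℂ) := fun i => by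
      rw [← classInner_conj_symm, hc, map_intCast]
    show classInner (G.F θ b - _) (G.F θ b' - _) = _
    rw [classInner_sub_left, classInner_sub_right, classInner_sub_right, R.inner_comb, R.inner_comb_left,
      R.inner_comb_comb]
    simp only [hc, hconj, map_intCast]
    rw [Finset.sum_congr rfl fun i (_ : i ∈ (Finset.univ : Finset (Fin 4))) => mul_comm (c b i : ℂ) (c b' i : ℂ)]
    ring
  have hne : ∀ b, E b ≠ 0 := fun b e => by
    have := hEv b
    rw [e] at this
    cases b <;> simp [bs] at this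
  have hnorm : ∀ b, ∃ n : ℕ, 1 ≤ n ∧ c b 0 * c b 0 + c b 1 * c b 1 + c b 2 * c b 2 + c b 3 * c b 3 + n = 3 ∧
      classInner (E b) (E b) = (n : ℂ) := fun b => by
    obtain ⟨n, hn, hn0⟩ := inner_gen_nonneg (hEg b)
    refine ⟨n, Nat.pos_of_ne_zero fun e => hne b (hn0 e), ?_, hn⟩
    apply Int.cast_injective (α := ℂ)
    rw [hEE, G.inner_F_F h h, Fin.sum_univ_four, if_pos rfl, if_pos rfl, if_neg (G.inv_ne h).symm] at hn
    push_cast
    linear_combination -hn
  have hb0 : ∀ b, c b 0 = if b then 0 else -1 := fun b => by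
    apply Int.cast_injective (α := ℂ)
    rw [c0]
    cases b <;> simp [bs]
  have hWi : ∀ b, c b 0 + s * (c b 1 - c b 2 - c b 3) = if b then 2 else -2 := fun b => by
    apply Int.cast_injective (α := ℂ)
    push_cast
    rw [hW b]
    cases b <;> simp [bs]
  have hsmall : ∀ b i, c b i ≤ 1 ∧ -1 ≤ c b i := fun b i => by
    obtain ⟨n, hn1, hn, -⟩ := hnorm b
    have h1 := mul_self_nonneg (c b 0)
    have h2 := mul_self_nonneg (c b 1)
    have h3 := mul_self_nonneg (c b 2)
    have h4 := mul_self_nonneg (c b 3)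
    have hsq : c b i * c b i ≤ 2 := by fin_cases i <;> simp <;> omega
    constructor <;> nlinarith
  have hsq1 : ∀ b i, c b i * c b i = if c b i = 0 then 0 else 1 := fun b i => by
    obtain ⟨h1, h2⟩ := hsmall b i
    interval_cases hv : c b i <;> norm_num
  -- the two patterns
  have hP : (c false 1 = -s ∧ c false 2 = 0 ∧ c false 3 = 0) ∨ (c false 1 = 0 ∧ c false 2 = s ∧ c false 3 = 0) ∨
      (c false 1 = 0 ∧ c false 2 = 0 ∧ c false 3 = s) := by
    obtain ⟨n, hn1, hn, -⟩ := hnorm false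
    have hw := hWi false
    rw [hsq1, hsq1, hsq1, hsq1] at hn
    simp only [hb0] at hn hw
    obtain ⟨a1, b1⟩ := hsmall false 1
    obtain ⟨a2, b2⟩ := hsmall false 2
    obtain ⟨a3, b3⟩ := hsmall false 3
    rcases hp.s_cases with hs | hs <;> subst hs <;> simp only [if_false, Bool.false_eq_true] at hn hw <;>
      split_ifs at hn <;> omega
  have hM : (c true 1 = s ∧ c true 2 = -s ∧ c true 3 = 0) ∨ (c true 1 = s ∧ c true 2 = 0 ∧ c true 3 = -s) ∨
      (c true 1 = 0 ∧ c true 2 = -s ∧ c true 3 = -s) := by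
    obtain ⟨n, hn1, hn, -⟩ := hnorm true
    have hw := hWi true
    rw [hsq1, hsq1, hsq1, hsq1] at hn
    simp only [hb0] at hn hw
    obtain ⟨a1, b1⟩ := hsmall true 1
    obtain ⟨a2, b2⟩ := hsmall true 2
    obtain ⟨a3, b3⟩ := hsmall true 3
    rcases hp.s_cases with hs | hs <;> subst hs <;> simp only [if_true] at hn hw <;>
      split_ifs at hn <;> omega
  have hone : ∀ b, classInner (E b) (E b) = 1 := fun b => by
    obtain ⟨n, hn1, hn, hE'⟩ := hnorm b
    have hn' : n = 1 := by
      rw [hsq1, hsq1, hsq1, hsq1] at hn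
      simp only [hb0] at hn
      cases b
      · rcases hP with ⟨u1, u2, u3⟩ | ⟨u1, u2, u3⟩ | ⟨u1, u2, u3⟩ <;> simp only [u1, u2, u3] at hn <;>
          rcases hp.s_cases with hs | hs <;> subst hs <;> simp at hn <;> omega
      · rcases hM with ⟨u1, u2, u3⟩ | ⟨u1, u2, u3⟩ | ⟨u1, u2, u3⟩ <;> simp only [u1, u2, u3] at hn <;>
          rcases hp.s_cases with hs | hs <;> subst hs <;> simp at hn <;> omega
    rw [hE', hn', Nat.cast_one]
  have hdisj : c false 0 * c true 0 + c false 1 * c true 1 + c false 2 * c true 2 + c false 3 * c true 3 ≠ -1 := by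
    intro ho
    have hi : classInner (E false) (E true) = 1 := by
      rw [hEE, G.inner_F_F h h, if_neg (by decide), Fin.sum_univ_four]
      have := congrArg (fun z : ℤ => (z : ℂ)) ho
      push_cast at this
      linear_combination -this
    have hi' : classInner (E true) (E false) = 1 := by rw [← classInner_conj_symm, hi, map_one]
    have hz : E false - E true = 0 := by
      rw [← classInner_self_eq_zero, classInner_sub_left (E false) (E true), classInner_sub_right (E false) (E false)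
        (E true), classInner_sub_right (E true) (E false) (E true), hone, hone,
        hi, hi']
      ring
    have := congrFun hz G.v
    rw [Pi.sub_apply, hEv, hEv, Pi.zero_apply] at this
    norm_num [bs] at this
  have hnot : ¬ ((c false 1 = 0 ∧ c false 2 = s ∧ c false 3 = 0) ∨ (c false 1 = 0 ∧ c false 2 = 0 ∧ c false 3 = s)) := by
    intro hbad
    have hE1 : E false 1 = -(2 * (s : ℂ) * k) := by
      show G.F θ false 1 - R.comb _ 1 = _
      rw [G.F_one, R.comb_apply, irr_apply_one_eq_deg, irr_apply_one_eq_deg, irr_apply_one_eq_deg, R.deg_a,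
        R.deg_b, hp.M_eqC, hb0]
      rcases hbad with ⟨u1, u2, u3⟩ | ⟨u1, u2, u3⟩ <;> rw [u1, u2, u3] <;> push_cast <;>
        linear_combination -hp.s_sq
    have key : ∃ χ : IrrCharacter X, ∃ e : ℂ, (e = 1 ∨ e = -1) ∧ ((χ : X → ℂ) G.v = 2 * e) ∧
        (χ : X → ℂ) 1 = -(2 * (s : ℂ) * k) * e := by
      rcases isIrr_or_neg_of_norm_one (hEg false) (hone false) with hi | hi
      · exact ⟨⟨_, hi⟩, 1, Or.inl rfl, by show E false G.v = _; rw [hEv]; simp [bs],
          by show E false 1 = _; rw [hE1]; ring⟩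
      · exact ⟨⟨_, hi⟩, -1, Or.inr rfl, by show -(E false G.v) = _; rw [hEv]; simp [bs],
          by show -(E false 1) = _; rw [hE1]; ring⟩
    obtain ⟨χ, e, he, hv, h1⟩ := key
    have hint := isIntegral_centralChar_irr χ.2 G.v
    rw [G.class_count hp, hv, h1] at hint
    have hk := G.k_ne
    have hi : IsIntegral ℤ (((q * M : ℕ) : ℂ) / (k : ℂ)) := by
      have h' : ∀ z : ℂ, IsIntegral ℤ z → (z = ((q * M : ℕ) : ℂ) / (k : ℂ) ∨ z = -(((q * M : ℕ) : ℂ) / (k : ℂ))) →
          IsIntegral ℤ (((q * M : ℕ) : ℂ) / (k : ℂ)) := by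
        rintro z hz (rfl | rfl)
        · exact hz
        · simpa using hz.neg
      refine h' _ hint ?_
      rcases hp.s_cases with hs | hs <;> subst hs <;> rcases he with he | he <;> subst he <;>
        first | (left; push_cast; field_simp; done) | (right; push_cast; field_simp; done)
    have hdvd := Int.natCast_dvd_natCast.2 (dvd_of_isIntegral_div (by have := G.k_pos; omega) hi)
    push_cast at hdvd
    rw [hp.q_eq, hp.M_eq] at hdvd
    have h1k : (k : ℤ) ∣ 1 := by
      obtain ⟨d, hd⟩ := hdvd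
      exact ⟨d - 8 * k - 6 * s, by linear_combination hd - hss⟩
    have := Int.le_of_dvd one_pos h1k
    have := G.k_pos
    omega
  rcases hP with hP | hP
  · obtain ⟨u1, u2, u3⟩ := hP
    have hM' : c true 1 = 0 ∧ c true 2 = -s ∧ c true 3 = -s := by
      rcases hM with ⟨v1, v2, v3⟩ | ⟨v1, v2, v3⟩ | hM
      · exact absurd (by rw [u1, u2, u3, v1, v2, v3, hb0 true]; simp only [if_true]; linear_combination -hss) hdisj
      · exact absurd (by rw [u1, u2, u3, v1, v2, v3, hb0 true]; simp only [if_true]; linear_combination -hss) hdisj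
      · exact hM
    rw [hc]
    congr 1
    obtain ⟨v1, v2, v3⟩ := hM'
    cases b <;> fin_cases i <;> simp [coef, hb0, u1, u2, u3, v1, v2, v3]
  · exact absurd hP hnot

/-- The exceptional character, up to sign. -/
noncomputable def Geo.e (θ : G.K →* ℂˣ) (b : Bool) : X → ℂ :=
  G.F θ b - R.comb (fun i => (coef s b i : ℂ))

theorem Geo.gen_e (θ : G.K →* ℂˣ) (b : Bool) : IsGeneralizedCharacter X (G.e R θ b) :=
  IsGeneralizedCharacter.sub (G.gen_F θ b) (R.gen_comb (coef s b))

theorem Geo.class_e (θ : G.K →* ℂˣ) (b : Bool) : IsClassFunction X (G.e R θ b) :=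
  isClassFunction_generalized (G.gen_e R θ b)

theorem Geo.e_block (hp : Par q k M s) {θ : G.K →* ℂˣ} (h : θ ≠ 1) (b : Bool) (i : Fin 4) :
    classInner (G.e R θ b) (R.mem i : X → ℂ) = 0 := by
  rw [Geo.e, classInner_sub_left, R.inner_mem, G.coef_eq R hp h, sub_self]

theorem Geo.e_comb (hp : Par q k M s) {θ : G.K →* ℂˣ} (h : θ ≠ 1) (b : Bool) (c : Fin 4 → ℂ) :
    classInner (G.e R θ b) (R.comb c) = 0 := by
  rw [R.inner_comb]
  simp [G.e_block R hp h]

theorem Geo.e_e (hp : Par q k M s) {θ θ' : G.K →* ℂˣ} (h : θ ≠ 1) (h' : θ' ≠ 1) (b b' : Bool) :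
    classInner (G.e R θ b) (G.e R θ' b') =
      if b = b' then (if θ = θ' then 1 else 0) + (if θ = θ'⁻¹ then 1 else 0) else 0 := by
  have hss := hp.s_sq
  have e1 : classInner (G.e R θ b) (G.e R θ' b') = classInner (G.e R θ b) (G.F θ' b') := by
    show classInner _ (G.F θ' b' - _) = _
    rw [classInner_sub_right, G.e_comb R hp h, sub_zero]
  have e2 : ∀ i, classInner (R.mem i : X → ℂ) (G.F θ' b') = (coef s b' i : ℂ) := fun i => by
    rw [← classInner_conj_symm, G.coef_eq R hp h', map_intCast]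
  rw [e1, Geo.e, classInner_sub_left, R.inner_comb_left, G.inner_F_F h h']
  simp only [e2, Fin.sum_univ_four]
  cases b <;> cases b' <;> simp [coef] <;> first | linear_combination hss | linear_combination -hss | linear_combination 2 * hss | linear_combination -2 * hss

/-- The values of the principal block on `K`. -/
theorem Geo.value_K (hp : Par q k M s) (y : G.K) (hy : y ≠ 1) :
    (R.St : X → ℂ) y = s ∧ (R.a : X → ℂ) y = s ∧ (R.b : X → ℂ) y = s := by
  letI : Fintype (G.K →* ℂˣ) := Fintype.ofFinite _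
  have key : ∀ i : Fin 4, ∀ b : Bool, ∀ e : ℤ, (∀ g : X, ¬ Odd (orderOf g) → (R.mem i : X → ℂ) g = e) →
      2 * coef s b i + (if b then -1 else 1) * e = -s → (R.mem i : X → ℂ) y = s := by
    intro i b e he hcf
    set f : G.K → ℂ := fun z => conj ((R.mem i : X → ℂ) z) - s with hf
    have hz : ∀ θ : G.K →* ℂˣ, ∑ z : G.K, (θ z : ℂ) * f z = ∑ z : G.K, f z := by
      intro θ
      by_cases hθ : θ = 1
      · simp [hθ]
      rw [← sub_eq_zero, ← Finset.sum_sub_distrib]
      have hI := G.inner_F_split θ b (isClassFunction_irr (R.mem i)) (e : ℂ) fun z => he _ (G.even_vK z.2)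
      rw [G.coef_eq R hp hθ, G.sum_theta_sub_one hθ, map_intCast] at hI
      have hcf' := congrArg (fun z : ℤ => (z : ℂ)) hcf
      have hbs : (((if b then -1 else 1 : ℤ) : ℤ) : ℂ) = bs b := by cases b <;> simp [bs]
      push_cast at hcf'
      rw [show ∑ z : G.K, ((θ z : ℂ) * f z - f z) = ∑ z : G.K, (((θ z : ℂ) - 1) * conj ((R.mem i : X → ℂ) z))
          - (s : ℂ) * ∑ z : G.K, ((θ z : ℂ) - 1) by
        rw [Finset.mul_sum, ← Finset.sum_sub_distrib]
        exact Finset.sum_congr rfl fun z _ => by simp only [hf]; ring, G.sum_theta_sub_one hθ]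
      have hk := G.k_ne
      field_simp at hI
      cases b <;> simp [bs] at hI hcf' ⊢ <;> linear_combination -hI + (k : ℂ) * hcf'
    have hexp := Cfsg.Lib.Dual.expand G.K_comm f y
    have hconst : ∀ ω : G.K →* ℂˣ, classInner f (Cfsg.Lib.Dual.ev ω) = (k : ℂ)⁻¹ * ∑ z : G.K, f z := fun ω => by
      rw [classInner_def, G.card_K, ← hz ω⁻¹]
      congr 1
      refine Finset.sum_congr rfl fun z _ => ?_
      simp only [Cfsg.Lib.Dual.ev, G.conj_theta, MonoidHom.inv_apply, Units.val_inv_eq_inv_val]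
      ring
    rw [Finset.sum_congr rfl fun ω _ => by rw [hconst ω], ← Finset.mul_sum] at hexp
    obtain ⟨ω₀, hω₀⟩ := Cfsg.Lib.Dual.exists_hom_ne_one G.K_comm hy
    have hsum : ∑ ω : G.K →* ℂˣ, Cfsg.Lib.Dual.ev ω y = 0 := by
      have h1 : (ω₀ y : ℂ) * ∑ ω : G.K →* ℂˣ, Cfsg.Lib.Dual.ev ω y = ∑ ω : G.K →* ℂˣ, Cfsg.Lib.Dual.ev ω y := by
        rw [Finset.mul_sum]
        exact Fintype.sum_equiv (Equiv.mulLeft ω₀) _ _ fun ω => by simp [Cfsg.Lib.Dual.ev]
      have h2 : ((ω₀ y : ℂ) - 1) * ∑ ω : G.K →* ℂˣ, Cfsg.Lib.Dual.ev ω y = 0 := by linear_combination h1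
      rcases mul_eq_zero.1 h2 with h3 | h3
      · exact absurd (Units.ext (sub_eq_zero.1 h3)) hω₀
      · exact h3
    rw [hsum, mul_zero, hf] at hexp
    have := congrArg conj (sub_eq_zero.1 hexp)
    rwa [Complex.conj_conj, map_intCast] at this
  refine ⟨?_, ?_, ?_⟩
  · exact key 1 false s (fun g hg => (R.even g hg).1) (by simp [coef]; ring)
  · exact key 2 false (-s) (fun g hg => by push_cast; exact (R.even g hg).2.1) (by simp [coef])
  · exact key 3 false (-s) (fun g hg => by push_cast; exact (R.even g hg).2.2) (by simp [coef])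

end Cfsg.Lib.Ree.PSL
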