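import Cfsg.Agent.Ree.PSL.Spec
import Cfsg.Agent.AbCentMax.PSLFacts
import Cfsg.Agent.Blocks.KleinFour
import Cfsg.Agent.Known.SLTwo.Chars.SLCounts
import Cfsg.Agent.S0276

/-!
What is used about the group `PSL(2, q)`, `q ≡ 3, 5 (mod 8)`: the centralizer of an involution, the
centralizers of the elements of odd order in it, and the characters of odd degree.
-/

set_option autoImplicit false
set_option linter.unusedSectionVars false
set_option linter.style.haveILetI false

namespace Cfsg.Lib.Ree.PSL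

open Subgroup Cfsg.Lib.Chars

universe u v

/-- The sign of `Q`. -/
def sgn (F : Type v) [Fintype F] : ℤ := if Fintype.card F % 8 = 5 then 1 else -1

/-- The group facts: `k` is the order of the odd part `K` of the centralizer of the involution `v`, `M` the odd one
among `(q ± 1)/2`. -/
structure Geo (X : Type u) [Group X] [Fintype X] (q k M : ℕ) where
  v : X
  w : X
  K : Subgroup X
  k_pos : 3 ≤ k
  k_odd : Odd k
  v_ord : orderOf v = 2
  w_ord : orderOf w = 2
  wv : Commute w v
  w_ne : w ≠ v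
  sylow : ∀ P : Sylow 2 X, Nat.card (P : Subgroup X) = 4 ∧ ∀ u ∈ (P : Subgroup X), u * u = 1
  one : ∀ a b : X, orderOf a = 2 → orderOf b = 2 → IsConj a b
  comm : ∀ y : X, y ∈ K ↔ Odd (orderOf y) ∧ Commute y v
  cyclic : IsCyclic K
  card_K : Nat.card K = k
  card_C : Nat.card (centralizer ({v} : Set X)) = 4 * k
  card_X : 2 * Nat.card X = q * (q * q - 1)
  inverts : ∀ y ∈ K, w * y * w⁻¹ = y⁻¹
  C_cases : ∀ z : X, Commute z v → ∃ y ∈ K, z = y ∨ z = v * y ∨ z = w * y ∨ z = v * w * y
  cent_y : ∀ y ∈ K, y ≠ 1 → ∀ z : X, Commute z y → Commute z v ∧ ∃ y' ∈ K, z = y' ∨ z = v * y'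
  deg_odd : ∀ χ : IrrCharacter X, Odd (deg (χ : X → ℂ)) →
    deg (χ : X → ℂ) = 1 ∨ deg (χ : X → ℂ) = q ∨ deg (χ : X → ℂ) = M
  deg_one : ∀ χ χ' : IrrCharacter X, deg (χ : X → ℂ) = 1 → deg (χ' : X → ℂ) = 1 → χ = χ'
  deg_q : ∀ χ χ' : IrrCharacter X, deg (χ : X → ℂ) = q → deg (χ' : X → ℂ) = q → χ = χ'
  deg_M : ∀ S : Finset (IrrCharacter X), (∀ χ ∈ S, deg (χ : X → ℂ) = M) → S.card ≤ 2

section Build

open Matrix Cfsg.Lib.GLTwo Cfsg.Lib.AbCentMax
open scoped MatrixGroups

variable {F : Type v} [Field F] [Fintype F]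

local notation "P₂" => Matrix.ProjectiveSpecialLinearGroup (Fin 2) F

theorem psl_one_class (hodd : Odd (Fintype.card F)) {a b : P₂} (ha : orderOf a = 2) (hb : orderOf b = 2) :
    IsConj a b := by
  have h2 := two_ne_zero_of_odd hodd
  obtain ⟨s, rfl⟩ := QuotientGroup.mk'_surjective (Subgroup.center SL(2, F)) a
  obtain ⟨c, rfl⟩ := QuotientGroup.mk'_surjective (Subgroup.center SL(2, F)) b
  obtain ⟨hs, -, hst⟩ := involution_lift h2 ha
  obtain ⟨hc, -, hct⟩ := involution_lift h2 hb
  have hfull := full_SL s hs.1 (.inl fun r hr e => h2 (by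
    have h0 : (2 : F) * r = 0 := by linear_combination e.symm.trans hst
    exact absurd ((mul_eq_zero.1 h0).resolve_left h2) (left_ne_zero_of_mul_eq_one hr)))
  exact MonoidHom.map_isConj prj (isConj_SL hs.1 hc.1 (hst.trans hct.symm) hfull)

theorem involution_centralizer (hodd : Odd (Fintype.card F)) {a : P₂} (ha : orderOf a = 2) :
    2 * Nat.card P₂ = Fintype.card F * (Fintype.card F * Fintype.card F - 1) ∧
      Nat.card (centralizer ({a} : Set P₂)) = (if Fintype.card F % 4 = 1 then Fintype.card F - 1 else Fintype.card F + 1) ∧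
      ∃ T : Subgroup P₂, IsCyclic T ∧ ∀ y : P₂, Odd (orderOf y) → Commute y a → y ∈ T := by
  have h2 := two_ne_zero_of_odd hodd
  obtain ⟨s, rfl⟩ := QuotientGroup.mk'_surjective (Subgroup.center SL(2, F)) a
  obtain ⟨hs, -, hst⟩ := involution_lift h2 ha
  set C := centralizer ({s} : Set SL(2, F))
  set Cp := centralizer ({prj s} : Set P₂)
  have hcomap : Nat.card (Cp.comap prj) = 2 * Nat.card C := card_comap_cent_of_trace_eq h2 hs.1 hst
  have hiff : IsSquare (-1 : F) ↔ Fintype.card F % 4 ≠ 3 := FiniteField.isSquare_neg_one_iff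
  have hC : Nat.card C = if Fintype.card F % 4 = 1 then Fintype.card F - 1 else Fintype.card F + 1 := by
    obtain ⟨n, hn⟩ := id hodd
    rcases kinds hs.1 with ⟨hi, hc⟩ | ⟨⟨r, r', -, ht, hd⟩, hc⟩ | ⟨⟨r, hr, ht⟩, -⟩
    · rw [if_neg fun h1 => ?_]
      · exact hc
      obtain ⟨r, hr⟩ := hiff.2 (by omega)
      exact hi r (by rw [hst]; linear_combination -hr)
    · rw [if_pos]
      · exact hc
      have h3 : Fintype.card F % 4 ≠ 3 := hiff.1 ⟨r, by rw [hst] at ht; linear_combination r * ht - hd⟩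
      omega
    · rw [hst] at ht
      exact absurd ((mul_eq_zero.1 (show (2 : F) * r = 0 by linear_combination -ht)).resolve_left h2)
        (left_ne_zero_of_mul_eq_one hr)
  have hidx := index_cent_prj_mul s
  have hmul := Cp.card_mul_index
  have hX2 : Nat.card SL(2, F) = 2 * Nat.card P₂ := by
    rw [Subgroup.card_eq_card_quotient_mul_card_subgroup (Subgroup.center SL(2, F)), mul_comm]
    congr 1
    rw [Nat.card_eq_two_iff' (1 : center SL(2, F))]
    refine ⟨⟨-1, (mem_center_iff_pm _).2 (Or.inr rfl)⟩, fun e => ?_, fun z hz => ?_⟩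
    · have h4 := congrArg (fun z : center SL(2, F) => ((z : SL(2, F)) : Matrix (Fin 2) (Fin 2) F) 0 0) e
      simp at h4
      exact h2 (by linear_combination -h4)
    · rcases (mem_center_iff_pm _).1 z.2 with e | e
      · exact absurd (Subtype.ext e) hz
      · exact Subtype.ext e
  have hSL := Cfsg.Lib.Classical.SLTwoTori.card_SL2 (F := F)
  rw [hX2] at hSL
  have hcomap2 : Nat.card (Cp.comap prj) = 2 * Nat.card Cp := by
    have h := (Cp.comap prj).card_mul_index
    rw [Subgroup.index_comap_of_surjective _ (QuotientGroup.mk'_surjective _), hX2, ← hmul, ← mul_assoc] at h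
    exact Nat.eq_of_mul_eq_mul_right (Nat.pos_of_ne_zero Cp.index_ne_zero_of_finite) h
  refine ⟨by rw [hSL, pow_two], ?_, C.map prj, ?_, fun y hy hya => ?_⟩
  · show Nat.card Cp = _
    rw [← hC]
    omega
  · haveI := hs.cyclic
    exact isCyclic_of_surjective (prj.subgroupMap C) (prj.subgroupMap_surjective C)
  · obtain ⟨l, rfl⟩ := QuotientGroup.mk'_surjective (Subgroup.center SL(2, F)) y
    exact ⟨l, mem_centralizer_singleton_iff.2 (lift_commute h2 hy hya).eq, rfl⟩

/-- The characters of odd degree. -/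
theorem psl_degrees (hodd : Odd (Fintype.card F)) (h5 : 5 ≤ Fintype.card F) {X : Type u} [Group X] [Fintype X]
    (π : SL(2, F) →* X) (hπ : Function.Surjective π) :
    ∃ ι : IrrCharacter X → IrrCharacter SL(2, F), Function.Injective ι ∧
      ∀ χ : IrrCharacter X, deg ((ι χ : SL(2, F) → ℂ)) = deg (χ : X → ℂ) := by
  classical
  refine ⟨fun χ => ⟨fun z => (χ : X → ℂ) (π z), IsIrrCharacter.comp_surjective χ.2 π hπ⟩, fun a b h => ?_, fun χ => ?_⟩
  · refine Subtype.ext (funext fun g => ?_)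
    obtain ⟨z, rfl⟩ := hπ g
    exact congrFun (congrArg Subtype.val h) z
  · apply Nat.cast_injective (R := ℂ)
    rw [← irr_apply_one_eq_deg, ← irr_apply_one_eq_deg]
    show (χ : X → ℂ) (π 1) = _
    rw [map_one]

end Build

open Matrix in
open scoped MatrixGroups in
/-- `PSL(2, q)` has these properties. -/
theorem exists_geo {F : Type v} [Field F] [Fintype F] {X : Type u} [Group X] [Fintype X]
    (hq : Fintype.card F % 8 = 3 ∨ Fintype.card F % 8 = 5) (hbig : 11 ≤ Fintype.card F)
    (e : X ≃* Matrix.ProjectiveSpecialLinearGroup (Fin 2) F) :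
    Nonempty (Geo X (Fintype.card F) (((Fintype.card F : ℤ) * sgn F - 1) / 4).natAbs
      (((Fintype.card F : ℤ) * sgn F + 1) / 2).natAbs) := by
  classical
  haveI : Fact (Nat.Prime 2) := ⟨Nat.prime_two⟩
  set q := Fintype.card F with hqdef
  have hodd : Odd q := Nat.odd_iff.2 (by omega)
  have hsyl : ∀ P : Sylow 2 X, Nat.card (P : Subgroup X) = 4 ∧ ∀ u ∈ (P : Subgroup X), u * u = 1 := by
    intro P
    obtain ⟨Q, hQ⟩ := (P.2.map e.toMonoidHom).exists_le_sylow
    haveI := Cfsg.Agent.S0276.result rfl hq Q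
    have hQ4 : Nat.card (Q : Subgroup (Matrix.ProjectiveSpecialLinearGroup (Fin 2) F)) = 4 := IsKleinFour.card_four
    refine ⟨?_, fun u hu => ?_⟩
    · rw [P.card_eq_multiplicity, Nat.card_congr e.toEquiv, ← Q.card_eq_multiplicity, hQ4]
    · have h := IsKleinFour.mul_self (⟨e u, hQ ⟨u, hu, rfl⟩⟩ : (Q : Subgroup _))
      refine e.injective ?_
      rw [map_mul, map_one]
      exact congrArg Subtype.val h
  obtain ⟨P⟩ := (inferInstance : Nonempty (Sylow 2 X))
  obtain ⟨hP4, hP2⟩ := hsyl P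
  obtain ⟨v, w, hvP, hwP, hv1, hw1, hvw⟩ : ∃ v w : X, v ∈ (P : Subgroup X) ∧ w ∈ (P : Subgroup X) ∧ v ≠ 1 ∧ w ≠ 1 ∧
      w ≠ v := by
    haveI : Nontrivial (P : Subgroup X) := Finite.one_lt_card_iff_nontrivial.1 (by omega)
    obtain ⟨a, ha⟩ := exists_ne (1 : (P : Subgroup X))
    have : ∃ b : (P : Subgroup X), b ≠ 1 ∧ b ≠ a := by
      by_contra h
      push Not at h
      have hle := Finset.card_le_card (show (Finset.univ : Finset (P : Subgroup X)) ⊆ {1, a} from fun x _ => by
        by_cases hx : x = 1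
        · simp [hx]
        · simp [h x hx])
      rw [Finset.card_univ, ← Nat.card_eq_fintype_card, hP4] at hle
      exact absurd (hle.trans Finset.card_le_two) (by norm_num)
    obtain ⟨b, hb1, hba⟩ := this
    exact ⟨a, b, a.2, b.2, fun h => ha (Subtype.ext h), fun h => hb1 (Subtype.ext h), fun h => hba (Subtype.ext h)⟩
  have hv2 : orderOf v = 2 := orderOf_eq_prime (by rw [pow_two]; exact hP2 v hvP) hv1
  have hw2 : orderOf w = 2 := orderOf_eq_prime (by rw [pow_two]; exact hP2 w hwP) hw1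
  have hwv : Commute w v := Cfsg.Lib.Blocks.commute_of_sq_eq_one hP2 hwP hvP
  have hev : orderOf (e v) = 2 := (e.orderOf_eq v).trans hv2
  have hew : orderOf (e w) = 2 := (e.orderOf_eq w).trans hw2
  obtain ⟨hcardX, hcardC, T, hTc, hT⟩ := involution_centralizer hodd hev
  set C := centralizer ({v} : Set X) with hCdef
  obtain ⟨L, hLn, hLi, hLo, hL⟩ : ∃ L : Subgroup C, L.Normal ∧ L.index = 4 ∧ ¬ 2 ∣ Nat.card L ∧
      ∀ c : C, c ∈ L ↔ ¬ 2 ∣ orderOf c := Cfsg.Lib.Blocks.exists_odd_complement P hP4 hP2 hvP hv1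
  set K := L.map C.subtype with hK
  have hoddiff : ∀ n : ℕ, Odd n ↔ ¬ 2 ∣ n := fun n => by rw [← Nat.not_even_iff_odd, even_iff_two_dvd]
  have hcomm : ∀ y : X, y ∈ K ↔ Odd (orderOf y) ∧ Commute y v := by
    intro y
    constructor
    · rintro ⟨c, hc, rfl⟩
      exact ⟨(hoddiff _).2 (by rw [Subgroup.coe_subtype, Subgroup.orderOf_coe]; exact (hL c).1 hc),
        mem_centralizer_singleton_iff.1 c.2⟩
    · rintro ⟨hy, hyv⟩
      refine ⟨⟨y, mem_centralizer_singleton_iff.2 hyv.eq⟩, (hL _).2 ?_, rfl⟩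
      rw [Subgroup.orderOf_mk]
      exact (hoddiff _).1 hy
  have hC' : Nat.card C = if q % 4 = 1 then q - 1 else q + 1 := by
    refine Eq.trans (Nat.card_congr ?_) hcardC
    exact e.toEquiv.subtypeEquiv fun x => by
      simp only [hCdef, mem_centralizer_singleton_iff, MulEquiv.toEquiv_eq_coe, MulEquiv.coe_toEquiv]
      rw [← map_mul, ← map_mul]
      exact ⟨fun h => congrArg e h, fun h => e.injective h⟩
  set k := (((q : ℤ) * sgn F - 1) / 4).natAbs with hk
  set M := (((q : ℤ) * sgn F + 1) / 2).natAbs with hM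
  have hk' : 4 * k = (if q % 4 = 1 then q - 1 else q + 1) ∧ Odd k ∧ 3 ≤ k := by
    rw [hk, Nat.odd_iff, sgn, ← hqdef]
    rcases hq with h | h <;> simp [h] <;> split_ifs <;> omega
  have hM' : ∀ n : ℕ, (n = (q + 1) / 2 ∨ n = (q - 1) / 2) → Odd n → n = M := by
    intro n hn ho
    rw [Nat.odd_iff] at ho
    rw [hM, sgn, ← hqdef]
    rcases hq with h | h <;> simp [h] <;> omega
  have hKk : Nat.card K = k := by
    rw [hK, card_map_of_injective C.subtype_injective]
    have h := L.card_mul_index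
    rw [hLi, hC', ← hk'.1] at h
    omega
  have hinv : ∀ y ∈ K, w * y * w⁻¹ = y⁻¹ := by
    intro y hy
    obtain ⟨hy, hyv⟩ := (hcomm y).1 hy
    refine e.injective ?_
    simp only [map_mul, map_inv]
    refine Cfsg.Lib.AbCentMax.psl_inverts hodd hev hew (fun h => hvw (e.injective h).symm) (hwv.symm.map e.toMonoidHom) ?_
      (hyv.map e.toMonoidHom)
    rwa [e.orderOf_eq]
  have hP : ∀ x ∈ (P : Subgroup X), x = 1 ∨ x = v ∨ x = w ∨ x = v * w := by
    have hvwne : v * w ≠ 1 := fun h => hvw (by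
      rw [eq_inv_of_mul_eq_one_right h, inv_eq_of_mul_eq_one_right (hP2 v hvP)])
    set S : Finset X := {1, v, w, v * w}
    have hS : S.card = 4 := by
      have e1 : v * w ≠ v := fun h => hw1 (mul_eq_left.1 h)
      have e2 : v * w ≠ w := fun h => hv1 (mul_eq_right.1 h)
      simp [S, hv1.symm, hw1.symm, hvwne.symm, hvw.symm, e1.symm, e2.symm]
    have heq : S = Finset.univ.filter (· ∈ (P : Subgroup X)) := by
      refine Finset.eq_of_subset_of_card_le (fun x hx => ?_) ?_
      · simp only [S, Finset.mem_insert, Finset.mem_singleton] at hx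
        refine Finset.mem_filter.2 ⟨Finset.mem_univ _, ?_⟩
        rcases hx with rfl | rfl | rfl | rfl
        exacts [one_mem _, hvP, hwP, mul_mem hvP hwP]
      · rw [hS, ← Fintype.card_subtype, ← Nat.card_eq_fintype_card]
        exact hP4.le
    intro x hx
    have : x ∈ S := heq ▸ Finset.mem_filter.2 ⟨Finset.mem_univ _, hx⟩
    simpa [S] using this
  have hCc : ∀ z : X, Commute z v → ∃ y ∈ K, z = y ∨ z = v * y ∨ z = w * y ∨ z = v * w * y := by
    have hPC : (P : Subgroup X) ≤ C := fun x hx =>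
      mem_centralizer_singleton_iff.2 (Cfsg.Lib.Blocks.commute_of_sq_eq_one hP2 hx hvP).eq
    intro z hz
    set Q := (P : Subgroup X).subgroupOf C
    have hcompl : IsComplement' Q L := by
      refine isComplement'_of_coprime ?_ ?_
      · rw [Nat.card_congr (subgroupOfEquivOfLe hPC).toEquiv, hP4, ← hLi, mul_comm]
        exact L.card_mul_index
      · rw [Nat.card_congr (subgroupOfEquivOfLe hPC).toEquiv, hP4]
        exact Nat.Coprime.pow_left 2 (Nat.coprime_two_left.2 ((hoddiff _).2 hLo))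
    obtain ⟨⟨a, b⟩, hab⟩ := hcompl.2 (⟨z, mem_centralizer_singleton_iff.2 hz.eq⟩ : C)
    refine ⟨((b : C) : X), ⟨b, b.2, rfl⟩, ?_⟩
    have hz' : z = ((a : C) : X) * ((b : C) : X) := by
      simpa using (congrArg Subtype.val hab).symm
    rcases hP _ (mem_subgroupOf.1 a.2) with h | h | h | h <;> rw [h] at hz' <;> simp [hz']
  refine ⟨⟨v, w, K, hk'.2.2, hk'.2.1, hv2, hw2, hwv, hvw, hsyl, fun a b ha hb => ?_, hcomm, ?_, hKk, ?_, ?_, hinv,
    hCc, ?_, ?_, ?_, ?_, ?_⟩⟩
  · have h := MonoidHom.map_isConj e.symm.toMonoidHom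
      (psl_one_class hodd ((e.orderOf_eq a).trans ha) ((e.orderOf_eq b).trans hb))
    simpa using h
  · haveI := hTc
    refine isCyclic_of_injective (f := ((e.toMonoidHom.comp K.subtype).codRestrict T fun y => ?_)) fun a b h => ?_
    · obtain ⟨h1, h2⟩ := (hcomm y).1 y.2
      exact hT _ (by rwa [MonoidHom.comp_apply, MulEquiv.coe_toMonoidHom, e.orderOf_eq]) (h2.map e.toMonoidHom)
    · exact Subtype.ext (e.injective (congrArg Subtype.val h))
  · rw [hC', hk'.1]
  · rw [← hcardX, Nat.card_congr e.toEquiv]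
  · -- the centralizer of a nontrivial element of `K`
    intro y hy hy1 z hzy
    obtain ⟨hyo, hyv⟩ := (hcomm y).1 hy
    have hev' : ∀ u : X, orderOf u = 2 → Commute u y → u = v := by
      intro u hu huy
      by_contra hne
      have hodd_v : ∀ x : X, Odd (orderOf x) → Commute x y → Commute x v := fun x hx hxy => by
        have h := Cfsg.Lib.AbCentMax.psl_fix_of_comm hodd hev (fun h => hy1 (e.injective (h.trans e.map_one.symm)))
          (by rwa [e.orderOf_eq]) (hyv.map e.toMonoidHom) (z := e x) (by rwa [e.orderOf_eq]) (hxy.map e.toMonoidHom)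
        exact e.injective (by rw [map_mul, map_mul]; exact h.eq)
      have huu : u * u = 1 := by rw [← pow_two, ← hu, pow_orderOf_eq_one]
      have hvv : v * v = 1 := hP2 v hvP
      set x := u * v with hx
      have hxy : Commute x y := huy.mul_left hyv.symm
      have hxv : v * x * v⁻¹ = x⁻¹ := by
        rw [hx, _root_.mul_inv_rev, inv_eq_of_mul_eq_one_right huu, inv_eq_of_mul_eq_one_right hvv, mul_assoc, mul_assoc,
          hvv, mul_one]
      rcases Nat.even_or_odd (orderOf x) with ⟨m, hm⟩ | ho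
      · have hm0 : 0 < m := by have := orderOf_pos x; omega
        have hj : orderOf (x ^ m) = 2 := orderOf_eq_prime (by rw [← pow_mul, mul_two, ← hm, pow_orderOf_eq_one])
          fun h => by have := Nat.le_of_dvd hm0 (orderOf_dvd_of_pow_eq_one h); omega
        have hjv : Commute v (x ^ m) := mul_inv_eq_iff_eq_mul.1 (by
          rw [← conj_pow, hxv, inv_pow, inv_eq_of_mul_eq_one_right (by
            rw [← pow_add, ← hm, pow_orderOf_eq_one])])
        by_cases hjeq : x ^ m = v
        · have huv : Commute u v := by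
            have h := (hjeq ▸ Commute.self_pow x m).mul_left (Commute.refl v).inv_left
            rwa [hx, mul_inv_cancel_right] at h
          refine hy1 (e.injective ?_)
          rw [map_one]
          exact Cfsg.Lib.AbCentMax.psl_eq_one_of_comm hodd ((e.orderOf_eq u).trans hu) hev (fun h => hne (e.injective h))
            (huv.map e.toMonoidHom) (by rwa [e.orderOf_eq]) (huy.symm.map e.toMonoidHom) (hyv.map e.toMonoidHom)
        · refine hy1 (e.injective ?_)
          rw [map_one]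
          exact Cfsg.Lib.AbCentMax.psl_eq_one_of_comm hodd hev ((e.orderOf_eq _).trans hj) (fun h => hjeq (e.injective h).symm)
            (hjv.map e.toMonoidHom) (by rwa [e.orderOf_eq]) (hyv.map e.toMonoidHom)
            ((hxy.pow_left m).symm.map e.toMonoidHom)
      · have hxc := hodd_v x ho hxy
        have h1 : x = x⁻¹ := by rw [← hxv, hxc.symm.eq, mul_inv_cancel_right]
        have h2 : x ^ 2 = 1 := by rw [pow_two]; nth_rw 2 [h1]; exact mul_inv_cancel x
        have h3 : x = 1 := orderOf_eq_one_iff.1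
          (Nat.Coprime.eq_one_of_dvd (Nat.coprime_two_right.2 ho) (orderOf_dvd_of_pow_eq_one h2))
        exact hne (by rw [eq_inv_of_mul_eq_one_left h3, inv_eq_of_mul_eq_one_right hvv])
    -- split `z` into its odd part and its 2-part
    obtain ⟨a, b, hab, hc, ⟨j, hj⟩, hb⟩ := Cfsg.Lib.Blocks.exists_isPPart' (p := 2) Nat.prime_two z
    have hbo : Odd (orderOf b) := (hoddiff _).2 hb
    have haz : a ∈ zpowers z ∧ b ∈ zpowers z := by
      obtain ⟨i, hi⟩ := exists_pow_eq_self_of_coprime (x := b) (n := 2 ^ j)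
        ((Nat.coprime_two_left.2 hbo).pow_left j)
      have hb' : b ^ 2 ^ j = z ^ 2 ^ j := by
        rw [← hab, hc.mul_pow, show a ^ 2 ^ j = 1 by rw [← hj, pow_orderOf_eq_one], one_mul]
      have hbz : b ∈ zpowers z := by
        rw [← hi, hb']; exact pow_mem (pow_mem (mem_zpowers z) _) _
      refine ⟨?_, hbz⟩
      have := mul_mem (mem_zpowers z) (inv_mem hbz)
      rwa [show z * b⁻¹ = a by rw [← hab, mul_inv_cancel_right]] at this
    have hpy : ∀ x ∈ zpowers z, Commute x y := fun x hx => by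
      obtain ⟨i, rfl⟩ := mem_zpowers_iff.1 hx
      exact hzy.zpow_left i
    have hbK : b ∈ K := by
      refine (hcomm b).2 ⟨hbo, e.injective ?_⟩
      rw [map_mul, map_mul]
      exact (Cfsg.Lib.AbCentMax.psl_fix_of_comm hodd hev (fun h => hy1 (e.injective (h.trans e.map_one.symm)))
        (by rwa [e.orderOf_eq]) (hyv.map e.toMonoidHom) (z := e b) (by rwa [e.orderOf_eq])
        ((hpy b haz.2).map e.toMonoidHom)).eq
    have ha2 : a * a = 1 := by
      obtain ⟨Q, haQ, -, hQ2⟩ := Cfsg.Lib.Blocks.exists_klein_sylow hP4 hP2 ⟨j, hj⟩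
      exact hQ2 a haQ
    by_cases ha1 : a = 1
    · rw [ha1, one_mul] at hab
      exact ⟨hab ▸ ((hcomm b).1 hbK).2, b, hbK, Or.inl hab.symm⟩
    · have hav : a = v := hev' a (orderOf_eq_prime (by rw [pow_two]; exact ha2) ha1) (hpy a haz.1)
      rw [hav] at hab
      exact ⟨hab ▸ (Commute.refl v).mul_left ((hcomm b).1 hbK).2, b, hbK, Or.inr hab.symm⟩
  all_goals
    obtain ⟨ι, hι, hdeg⟩ := psl_degrees hodd (by omega)
      (e.symm.toMonoidHom.comp (QuotientGroup.mk' (Subgroup.center SL(2, F))))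
      (e.symm.surjective.comp (QuotientGroup.mk'_surjective _))
    obtain ⟨hall, hcnt⟩ := Cfsg.Lib.GLTwo.SCh.degrees_odd (F := F) hodd
    obtain ⟨h1, hqq, -, -, hp, hm⟩ := hcnt (by omega)
    simp only [← Nat.cast_one (R := ℂ), Cfsg.Lib.GLTwo.SCh.deg_eq_iff] at h1 hqq hp hm
  · intro χ hχ
    have h := hall _ (ι χ).2
    rw [irr_apply_one_eq_deg, hdeg, show ((q : ℂ) + 1) = ((q + 1 : ℕ) : ℂ) by push_cast; ring,
      show ((q : ℂ) - 1) = ((q - 1 : ℕ) : ℂ) from Cfsg.Lib.GLTwo.SCh.cast_pred.symm, ← Nat.cast_one (R := ℂ)] at h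
    simp only [Nat.cast_inj] at h
    have := Nat.odd_iff.1 hχ
    rcases h with h | h | h | h | h | h
    · exact Or.inl h
    · exact Or.inr (Or.inl h)
    · omega
    · omega
    · exact Or.inr (Or.inr (hM' _ (Or.inl h) hχ))
    · exact Or.inr (Or.inr (hM' _ (Or.inr h) hχ))
  · intro χ χ' a b
    rw [Nat.card_eq_one_iff_unique] at h1
    exact hι (congrArg Subtype.val (h1.1.elim ⟨ι χ, (hdeg χ).trans a⟩ ⟨ι χ', (hdeg χ').trans b⟩))
  · intro χ χ' a b
    rw [Nat.card_eq_one_iff_unique] at hqq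
    exact hι (congrArg Subtype.val (hqq.1.elim ⟨ι χ, (hdeg χ).trans a⟩ ⟨ι χ', (hdeg χ').trans b⟩))
  · intro S hS
    have hMcase : M = (q + 1) / 2 ∨ M = (q - 1) / 2 := by
      rw [hM, sgn, ← hqdef]
      rcases hq with h | h <;> simp [h] <;> omega
    have key : ∀ n : ℕ, M = n →
        Nat.card {χ : IrrCharacter SL(2, F) // deg (χ : SL(2, F) → ℂ) = n} = 2 → S.card ≤ 2 := fun n hn hc => by
      rw [← hc, ← Nat.card_eq_finsetCard]
      exact Nat.card_le_card_of_injective
        (fun χ : S => ⟨ι χ.1, (hdeg χ.1).trans ((hS χ.1 χ.2).trans hn)⟩)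
        fun a b h => Subtype.ext (hι (congrArg Subtype.val h))
    rcases hMcase with h | h
    · exact key _ h hp
    · exact key _ h hm

end Cfsg.Lib.Ree.PSL
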