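import Cfsg.Agent.Ree.PSL.Group
import Cfsg.Agent.Blocks.Embed
import Cfsg.Agent.Chars.Real

/-!
The four characters `1, St, a, b` of the principal 2-block of `PSL(2, q)`, their values on the elements of even
order, the relation on the elements of odd order, and the inner products of their combinations.
-/

set_option autoImplicit false
set_option linter.unusedSectionVars false
set_option linter.style.haveILetI false

namespace Cfsg.Lib.Ree.PSL

open Cfsg Cfsg.Lib.Blocks Cfsg.Lib.Chars
open scoped ComplexConjugate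

universe u

variable {X : Type u} [Group X] [Fintype X] {q k M : ℕ} {s : ℤ}

/-- The numbers: `Q = s q = 4 s k + 1`. -/
structure Par (q k M : ℕ) (s : ℤ) : Prop where
  s_cases : s = 1 ∨ s = -1
  q_eq : (q : ℤ) = 4 * k + s
  M_eq : (M : ℤ) = 2 * k + s

theorem Par.s_sq (hp : Par q k M s) : (s : ℂ) * s = 1 := by
  rcases hp.s_cases with h | h <;> rw [h] <;> norm_num

theorem Par.M_eqC (hp : Par q k M s) : (M : ℂ) = 2 * k + s := by exact_mod_cast hp.M_eq

theorem Par.q_eqC (hp : Par q k M s) : (q : ℂ) = 4 * k + s := by exact_mod_cast hp.q_eq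

/-- The principal block. -/
structure Rows (X : Type u) [Group X] [Fintype X] (q M : ℕ) (s : ℤ) where
  St : IrrCharacter X
  a : IrrCharacter X
  b : IrrCharacter X
  deg_St : deg (St : X → ℂ) = q
  deg_a : deg (a : X → ℂ) = M
  deg_b : deg (b : X → ℂ) = M
  ne : a ≠ b
  only_St : ∀ χ : IrrCharacter X, deg (χ : X → ℂ) = q → χ = St
  only_M : ∀ χ : IrrCharacter X, deg (χ : X → ℂ) = M → χ = a ∨ χ = b
  ne_St : principal X ≠ St
  ne_a : principal X ≠ a
  ne_b : principal X ≠ b
  St_ne_a : St ≠ a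
  St_ne_b : St ≠ b
  block : ∀ (Mi : Ideal AlgInt), IsPModular 2 Mi → ∀ χ : IrrCharacter X,
    χ ∈ principalBlock Mi X ↔ χ = principal X ∨ χ = St ∨ χ = a ∨ χ = b
  even : ∀ g : X, ¬ Odd (orderOf g) → (St : X → ℂ) g = s ∧ (a : X → ℂ) g = -s ∧ (b : X → ℂ) g = -s
  odd : ∀ g : X, Odd (orderOf g) →
    1 + (s : ℂ) * (St : X → ℂ) g - (s : ℂ) * (a : X → ℂ) g - (s : ℂ) * (b : X → ℂ) g = 0

theorem principal_apply (g : X) : ((principal X : IrrCharacter X) : X → ℂ) g = 1 := rfl

theorem deg_principal : deg ((principal X : IrrCharacter X) : X → ℂ) = 1 := by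
  apply Nat.cast_injective (R := ℂ)
  rw [← irr_apply_one_eq_deg, principal_apply, Nat.cast_one]

theorem not_odd_iff {g : X} : ¬ Odd (orderOf g) ↔ 2 ∣ orderOf g := by
  rw [Nat.not_odd_iff_even, even_iff_two_dvd]

/-- What the principal block looks like for one modular ideal. -/
theorem block_shape (G : Geo X q k M) (hp : Par q k M s) {Mi : Ideal AlgInt} (hMi : IsPModular 2 Mi) :
    ∃ St a b : IrrCharacter X, deg (St : X → ℂ) = q ∧ deg (a : X → ℂ) = M ∧ deg (b : X → ℂ) = M ∧ a ≠ b ∧
      (∀ χ : IrrCharacter X, χ ∈ principalBlock Mi X ↔ χ = principal X ∨ χ = St ∨ χ = a ∨ χ = b) ∧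
      ∀ g : X, ¬ Odd (orderOf g) → (St : X → ℂ) g = s ∧ (a : X → ℂ) g = -s ∧ (b : X → ℂ) g = -s := by
  classical
  obtain ⟨P⟩ := (inferInstance : Nonempty (Sylow 2 X))
  obtain ⟨hP, hexp⟩ := G.sylow P
  obtain ⟨ε, hcard, hε1, hε⟩ := klein_values hP hexp hMi G.one
  set S := Finset.univ.filter (fun χ : IrrCharacter X => χ ∈ principalBlock Mi X) with hS
  have h2v : 2 ∣ orderOf G.v := by rw [G.v_ord]
  have hcong : ∀ χ ∈ S, (4 : ℤ) ∣ (deg (χ : X → ℂ) : ℤ) - ε χ := fun χ hχ =>
    klein_deg_congr hP hexp hMi G.one ((hε χ (Finset.mem_filter.1 hχ).2).2)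
  have hdeg : ∀ χ ∈ S, deg (χ : X → ℂ) = 1 ∨ deg (χ : X → ℂ) = q ∨ deg (χ : X → ℂ) = M := fun χ hχ => by
    refine G.deg_odd χ (Nat.odd_iff.2 ?_)
    have h := hcong χ hχ
    rcases (hε χ (Finset.mem_filter.1 hχ).2).1 with e | e <;> rw [e] at h <;> omega
  set A := S.filter (fun χ : IrrCharacter X => deg (χ : X → ℂ) = 1) with hA
  set B := S.filter (fun χ : IrrCharacter X => deg (χ : X → ℂ) = q) with hB
  set C := S.filter (fun χ : IrrCharacter X => deg (χ : X → ℂ) = M) with hC
  have hle : S.card ≤ A.card + B.card + C.card := by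
    refine (Finset.card_le_card (t := A ∪ B ∪ C) fun χ hχ => ?_).trans
      ((Finset.card_union_le _ _).trans (Nat.add_le_add_right (Finset.card_union_le _ _) _))
    rcases hdeg χ hχ with h | h | h <;> simp [A, B, C, hχ, h]
  have hAc : A.card ≤ 1 := Finset.card_le_one.2 fun x hx y hy =>
    G.deg_one x y (Finset.mem_filter.1 hx).2 (Finset.mem_filter.1 hy).2
  have hBc : B.card ≤ 1 := Finset.card_le_one.2 fun x hx y hy =>
    G.deg_q x y (Finset.mem_filter.1 hx).2 (Finset.mem_filter.1 hy).2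
  have hCc : C.card ≤ 2 := G.deg_M C fun χ hχ => (Finset.mem_filter.1 hχ).2
  obtain ⟨St, hSt⟩ := Finset.card_eq_one.1 (show B.card = 1 by omega)
  obtain ⟨a, b, hab, hC2⟩ := Finset.card_eq_two.1 (show C.card = 2 by omega)
  have hStB : St ∈ B := hSt ▸ Finset.mem_singleton_self St
  have haC : a ∈ C := hC2 ▸ Finset.mem_insert_self a {b}
  have hbC : b ∈ C := hC2 ▸ Finset.mem_insert_of_mem (Finset.mem_singleton_self b)
  rw [hB, Finset.mem_filter] at hStB
  rw [hC, Finset.mem_filter] at haC hbC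
  have hmem : ∀ χ : IrrCharacter X, χ ∈ S ↔ χ ∈ principalBlock Mi X := fun χ => by simp [S]
  refine ⟨St, a, b, hStB.2, haC.2, hbC.2, hab, fun χ => ⟨fun hχ => ?_, fun hχ => ?_⟩, fun g hg => ?_⟩
  · rcases hdeg χ ((hmem χ).2 hχ) with h | h | h
    · exact Or.inl (G.deg_one χ _ h deg_principal)
    · exact Or.inr (Or.inl (G.deg_q χ St h hStB.2))
    · have : χ ∈ C := Finset.mem_filter.2 ⟨(hmem χ).2 hχ, h⟩
      rw [hC2] at this
      simp only [Finset.mem_insert, Finset.mem_singleton] at this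
      exact Or.inr (Or.inr this)
  · rcases hχ with rfl | rfl | rfl | rfl
    · exact mem_blockOf_self hMi (principal X)
    · exact (hmem _).1 hStB.1
    · exact (hmem _).1 haC.1
    · exact (hmem _).1 hbC.1
  · have hval : ∀ χ ∈ S, ∀ n : ℕ, deg (χ : X → ℂ) = n → ∀ t : ℤ, (t = 1 ∨ t = -1) → (4 : ℤ) ∣ (n : ℤ) - t →
        (χ : X → ℂ) g = (t : ℂ) := fun χ hχ n hn t ht hnt => by
      rw [(hε χ ((hmem χ).1 hχ)).2 g (not_odd_iff.1 hg)]
      have h := hcong χ hχ
      rw [hn] at h
      rcases (hε χ ((hmem χ).1 hχ)).1 with e | e <;> rcases ht with t' | t' <;> subst t' <;> rw [e] at h ⊢ <;>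
        first | rfl | (exfalso; omega)
    obtain ⟨c, hc⟩ := G.k_odd
    have hq := hp.q_eq
    have hM := hp.M_eq
    refine ⟨hval St hStB.1 q hStB.2 s hp.s_cases ⟨k, by omega⟩, ?_, ?_⟩
    · rw [← Int.cast_neg]
      exact hval a haC.1 M haC.2 (-s) (by rcases hp.s_cases with h | h <;> omega)
        (by rcases hp.s_cases with h | h <;> omega)
    · rw [← Int.cast_neg]
      exact hval b hbC.1 M hbC.2 (-s) (by rcases hp.s_cases with h | h <;> omega)
        (by rcases hp.s_cases with h | h <;> omega)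

/-- The principal block. -/
theorem exists_rows (G : Geo X q k M) (hp : Par q k M s) : Nonempty (Rows X q M s) := by
  classical
  obtain ⟨Mi, hMi⟩ := exists_isPModular Nat.prime_two
  obtain ⟨St, a, b, hSt, ha, hb, hab, hblk, hev⟩ := block_shape G hp hMi
  have hk := G.k_pos
  have hq := hp.q_eq
  have hM := hp.M_eq
  have hs := hp.s_cases
  have hne : ∀ χ χ' : IrrCharacter X, deg (χ : X → ℂ) ≠ deg (χ' : X → ℂ) → χ ≠ χ' := fun χ χ' h e => h (by rw [e])
  have honlyM : ∀ χ : IrrCharacter X, deg (χ : X → ℂ) = M → χ = a ∨ χ = b := fun χ hχ => by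
    by_contra h
    push Not at h
    have h3 := G.deg_M {χ, a, b} (by simp [hχ, ha, hb])
    rw [Finset.card_insert_of_notMem (by simp [h.1, h.2]), Finset.card_pair hab] at h3
    omega
  have n1 : principal X ≠ St := hne _ _ (by rw [deg_principal, hSt]; omega)
  have n2 : principal X ≠ a := hne _ _ (by rw [deg_principal, ha]; omega)
  have n3 : principal X ≠ b := hne _ _ (by rw [deg_principal, hb]; omega)
  have n4 : St ≠ a := hne _ _ (by rw [hSt, ha]; omega)
  have n5 : St ≠ b := hne _ _ (by rw [hSt, hb]; omega)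
  refine ⟨⟨St, a, b, hSt, ha, hb, hab, fun χ hχ => G.deg_q χ St hχ hSt, honlyM, n1, n2, n3, n4, n5,
    fun Mi' hMi' χ => ?_, hev, fun g hg => ?_⟩⟩
  · obtain ⟨St', a', b', hSt', ha', hb', hab', hblk', -⟩ := block_shape G hp hMi'
    rw [hblk' χ, G.deg_q St' St hSt' hSt]
    have e : ∀ c : IrrCharacter X, (c = a' ∨ c = b') ↔ (c = a ∨ c = b) := fun c => by
      constructor
      · rintro (rfl | rfl)
        exacts [honlyM _ ha', honlyM _ hb']
      · intro hc
        rcases honlyM a' ha' with h1 | h1 <;> rcases honlyM b' hb' with h2 | h2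
        · exact absurd (h1.trans h2.symm) hab'
        · rw [h1, h2]; exact hc
        · rw [h1, h2]; exact hc.symm
        · exact absurd (h1.trans h2.symm) hab'
    rw [e χ]
  · have hv : 2 ∣ orderOf G.v := by rw [G.v_ord]
    have h := block_orthogonality_regular hMi (isPBlock_blockOf (principal X))
      (fun h => Nat.not_even_iff_odd.2 hg (even_iff_two_dvd.2 h)) hv
    rw [show (Finset.univ.filter (· ∈ blockOf Mi ((principal X : IrrCharacter X) : X → ℂ))) =
        ({principal X, St, a, b} : Finset (IrrCharacter X)) from Finset.ext fun χ => by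
      simp only [Finset.mem_filter, Finset.mem_univ, true_and, Finset.mem_insert, Finset.mem_singleton]
      exact hblk χ] at h
    rw [Finset.sum_insert (by simp [n1, n2, n3]), Finset.sum_insert (by simp [n4, n5]), Finset.sum_pair hab] at h
    obtain ⟨e1, e2, e3⟩ := hev G.v (not_odd_iff.2 hv)
    simp only [principal_apply, e1, e2, e3, map_one, map_neg, map_intCast] at h
    linear_combination h

variable (R : Rows X q M s)

/-- The members of the principal block. -/
noncomputable def Rows.mem : Fin 4 → IrrCharacter X := ![principal X, R.St, R.a, R.b]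

/-- A combination of the members. -/
noncomputable def Rows.comb (c : Fin 4 → ℂ) : X → ℂ := fun g => ∑ i, c i * (R.mem i : X → ℂ) g

theorem Rows.comb_apply (c : Fin 4 → ℂ) (g : X) :
    R.comb c g = c 0 + c 1 * (R.St : X → ℂ) g + c 2 * (R.a : X → ℂ) g + c 3 * (R.b : X → ℂ) g := by
  simp [Rows.comb, Rows.mem, Fin.sum_univ_four, principal_apply]

theorem Rows.mem_injective : Function.Injective R.mem := by
  intro i j h
  have := R.ne; have := R.ne_St; have := R.ne_a; have := R.ne_b; have := R.St_ne_a; have := R.St_ne_b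
  fin_cases i <;> fin_cases j <;> simp_all [Rows.mem, eq_comm]

theorem Rows.mem_block {Mi : Ideal AlgInt} (hMi : IsPModular 2 Mi) (χ : IrrCharacter X) :
    χ ∈ principalBlock Mi X ↔ ∃ i, R.mem i = χ := by
  rw [R.block Mi hMi]
  constructor
  · rintro (h | h | h | h)
    exacts [⟨0, h.symm⟩, ⟨1, h.symm⟩, ⟨2, h.symm⟩, ⟨3, h.symm⟩]
  · rintro ⟨i, rfl⟩
    fin_cases i <;> simp [Rows.mem]

theorem Rows.comb_eq (c : Fin 4 → ℂ) : R.comb c = ∑ i, c i • (R.mem i : X → ℂ) := by
  funext g
  simp [Rows.comb, Finset.sum_apply]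

theorem Rows.inner_comb (f : X → ℂ) (c : Fin 4 → ℂ) :
    classInner f (R.comb c) = ∑ i, conj (c i) * classInner f (R.mem i : X → ℂ) := by
  rw [Rows.comb_eq, classInner_sum_right]
  simp [classInner_smul_right]

theorem Rows.inner_comb_left (f : X → ℂ) (c : Fin 4 → ℂ) :
    classInner (R.comb c) f = ∑ i, c i * classInner (R.mem i : X → ℂ) f := by
  rw [Rows.comb_eq, classInner_sum_left]
  simp [classInner_smul_left]

theorem Rows.inner_mem (c : Fin 4 → ℂ) (i : Fin 4) : classInner (R.comb c) (R.mem i : X → ℂ) = c i := by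
  classical
  rw [Rows.inner_comb_left, Finset.sum_eq_single i]
  · rw [classInner_irr_self, mul_one]
  · intro j _ hj
    rw [classInner_irr_ne (fun h => hj (R.mem_injective h)), mul_zero]
  · simp

theorem Rows.inner_out (c : Fin 4 → ℂ) {χ : IrrCharacter X} (h : ∀ i, R.mem i ≠ χ) :
    classInner (R.comb c) (χ : X → ℂ) = 0 := by
  rw [Rows.inner_comb_left]
  exact Finset.sum_eq_zero fun i _ => by rw [classInner_irr_ne (h i), mul_zero]

theorem Rows.inner_comb_comb (c d : Fin 4 → ℂ) :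
    classInner (R.comb c) (R.comb d) = ∑ i, conj (d i) * c i := by
  simp [Rows.inner_comb, Rows.inner_mem]

theorem Rows.class_comb (c : Fin 4 → ℂ) : IsClassFunction X (R.comb c) := fun g h => by
  simp only [Rows.comb]
  exact Finset.sum_congr rfl fun i _ => by rw [isClassFunction_irr]

theorem Rows.gen_comb (c : Fin 4 → ℤ) : IsGeneralizedCharacter X (R.comb fun i => (c i : ℂ)) := by
  rw [Rows.comb_eq]
  refine IsGeneralizedCharacter.sum _ _ fun i _ => ?_
  have h := IsGeneralizedCharacter.zsmul (IsCharacter.isGeneralized (isCharacter_of_irr (R.mem i).2)) (c i)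
  convert h using 1
  funext g
  simp

/-- `s St - 1`. -/
noncomputable def Rows.x : X → ℂ := R.comb ![-1, (s : ℂ), 0, 0]

/-- `s (a + St)`. -/
noncomputable def Rows.al : X → ℂ := R.comb ![0, (s : ℂ), (s : ℂ), 0]

/-- `s (b + St)`. -/
noncomputable def Rows.be : X → ℂ := R.comb ![0, (s : ℂ), 0, (s : ℂ)]

/-- `s a`. -/
noncomputable def Rows.A : X → ℂ := R.comb ![0, 0, (s : ℂ), 0]

/-- `s b`. -/
noncomputable def Rows.B : X → ℂ := R.comb ![0, 0, 0, (s : ℂ)]

theorem Rows.conj_St (g : X) : conj ((R.St : X → ℂ) g) = (R.St : X → ℂ) g := by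
  have h : conjIrr R.St = R.St := R.only_St _ (by
    apply Nat.cast_injective (R := ℂ)
    rw [← irr_apply_one_eq_deg]
    show conj ((R.St : X → ℂ) 1) = _
    rw [irr_apply_one_eq_deg, R.deg_St, Complex.conj_natCast])
  exact congrFun (congrArg Subtype.val h) g

theorem Rows.conj_ab : (∀ g, conj ((R.a : X → ℂ) g) = (R.a : X → ℂ) g ∧ conj ((R.b : X → ℂ) g) = (R.b : X → ℂ) g) ∨
    (∀ g, conj ((R.a : X → ℂ) g) = (R.b : X → ℂ) g ∧ conj ((R.b : X → ℂ) g) = (R.a : X → ℂ) g) := by
  have hd : ∀ χ : IrrCharacter X, deg (χ : X → ℂ) = M → deg (conjIrr χ : X → ℂ) = M := fun χ hχ => by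
    apply Nat.cast_injective (R := ℂ)
    rw [← irr_apply_one_eq_deg]
    show conj ((χ : X → ℂ) 1) = _
    rw [irr_apply_one_eq_deg, hχ, Complex.conj_natCast]
  have hinv : ∀ χ : IrrCharacter X, conjIrr (conjIrr χ) = χ := fun χ =>
    Subtype.ext (funext fun g => Complex.conj_conj _)
  rcases R.only_M _ (hd _ R.deg_a) with ha | ha <;> rcases R.only_M _ (hd _ R.deg_b) with hb | hb
  · exact absurd ((hinv R.a).symm.trans ((congrArg conjIrr (ha.trans hb.symm)).trans (hinv R.b))) R.ne
  · exact Or.inl fun g => ⟨congrFun (congrArg Subtype.val ha) g, congrFun (congrArg Subtype.val hb) g⟩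
  · exact Or.inr fun g => ⟨congrFun (congrArg Subtype.val ha) g, congrFun (congrArg Subtype.val hb) g⟩
  · exact absurd ((hinv R.a).symm.trans ((congrArg conjIrr (ha.trans hb.symm)).trans (hinv R.b))) R.ne

end Cfsg.Lib.Ree.PSL
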