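import Cfsg.Agent.Ree.PSL.Exc

/-!
The three kinds of irreducible characters: the principal block, the exceptional characters of `K`, and the rest,
which vanish on the elements of even order and on the nontrivial elements of `K`.
-/

set_option autoImplicit false
set_option linter.unusedSectionVars false
set_option linter.style.haveILetI false

namespace Cfsg.Lib.Ree.PSL

open Cfsg Cfsg.Lib.Blocks Cfsg.Lib.Chars
open scoped ComplexConjugate

universe u

attribute [local instance] _root_.Classical.propDecidable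

variable {X : Type u} [Group X] [Fintype X] {q k M : ℕ} {s : ℤ} (G : Geo X q k M) (R : Rows X q M s)

/-- The characters of `K` form a finite type. -/
noncomputable def Geo.homFintype : Fintype (G.K →* ℂˣ) := Fintype.ofFinite _

attribute [local instance] Geo.homFintype

theorem Geo.e_tmap (hp : Par q k M s) (θ : G.K →* ℂˣ) (b b' : Bool) (y : G.K) (hy : b' = true ∨ y ≠ 1) :
    G.e R θ b ((G.tmap (b', y) : G.T) : X) = (if b' then bs b else 1) * ((θ y : ℂ) + (θ y : ℂ)⁻¹) := by
  have hs := hp.s_sq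
  show G.F θ b _ - R.comb _ _ = _
  rw [G.F_value, Geo.D]
  cases b'
  · obtain ⟨h1, h2, h3⟩ := G.value_K R hp y (hy.resolve_left (by decide))
    rw [R.comb_apply, show ((G.tmap (false, y) : G.T) : X) = y from rfl, h1, h2, h3]
    cases b <;> simp [coef] <;> first | linear_combination hs | linear_combination 2 * hs
  · rw [R.comb_even _ (show ¬ Odd (orderOf ((G.tmap (true, y) : G.T) : X)) from G.even_vK y.2)]
    cases b <;> simp [coef, bs] <;>
      first
        | linear_combination hs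
        | linear_combination -hs
        | linear_combination 2 * hs
        | linear_combination -2 * hs
        | linear_combination 4 * hs
        | linear_combination -4 * hs

theorem Geo.e_one (hp : Par q k M s) (θ : G.K →* ℂˣ) (b : Bool) :
    G.e R θ b 1 = (s : ℂ) * (q : ℂ) + 1 := by
  have hs := hp.s_sq
  show G.F θ b 1 - R.comb _ 1 = _
  rw [G.F_one, R.comb_apply, irr_apply_one_eq_deg, irr_apply_one_eq_deg, irr_apply_one_eq_deg, R.deg_St, R.deg_a,
    R.deg_b, hp.q_eqC, hp.M_eqC]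
  cases b <;> simp [coef] <;> first | linear_combination hs | linear_combination -hs |
    ring

theorem Geo.e_single (hp : Par q k M s) {θ : G.K →* ℂˣ} (h : θ ≠ 1) (b : Bool) :
    ∃ χ : IrrCharacter X, ∃ c : ℂ, (c = 1 ∨ c = -1) ∧ G.e R θ b = c • (χ : X → ℂ) := by
  have hn : classInner (G.e R θ b) (G.e R θ b) = 1 := by
    rw [G.e_e R hp h h, if_pos rfl, if_pos rfl, if_neg (G.inv_ne h).symm, add_zero]
  rcases isIrr_or_neg_of_norm_one (G.gen_e R θ b) hn with hi | hi
  · exact ⟨⟨_, hi⟩, 1, Or.inl rfl, by simp⟩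
  · exact ⟨⟨_, hi⟩, -1, Or.inr rfl, by simp⟩

/-- The pairs indexing the exceptional characters. -/
noncomputable def Geo.pairs : Finset ((G.K →* ℂˣ) × Bool) := Finset.univ.filter (fun p => p.1 ≠ 1)

theorem Geo.mem_pairs {p : (G.K →* ℂˣ) × Bool} : p ∈ G.pairs ↔ p.1 ≠ 1 := by simp [Geo.pairs]

/-- The exceptional irreducible character of a pair. -/
noncomputable def Geo.sel (hp : Par q k M s) (p : (G.K →* ℂˣ) × Bool) : IrrCharacter X :=
  if h : p.1 ≠ 1 then Classical.choose (G.e_single R hp h p.2) else principal X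

theorem Geo.sel_spec (hp : Par q k M s) {p : (G.K →* ℂˣ) × Bool} (h : p ∈ G.pairs) :
    ∃ c : ℂ, (c = 1 ∨ c = -1) ∧ G.e R p.1 p.2 = c • (G.sel R hp p : X → ℂ) := by
  rw [Geo.sel, dif_pos (G.mem_pairs.1 h)]
  exact Classical.choose_spec (G.e_single R hp (G.mem_pairs.1 h) p.2)

/-- The exceptional characters. -/
noncomputable def Geo.out (hp : Par q k M s) : Finset (IrrCharacter X) := G.pairs.image (G.sel R hp)

theorem Geo.inner_e (hp : Par q k M s) {p : (G.K →* ℂˣ) × Bool} (h : p ∈ G.pairs) (χ : IrrCharacter X) :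
    classInner (G.e R p.1 p.2) (χ : X → ℂ) ≠ 0 ↔ G.sel R hp p = χ := by
  obtain ⟨c, hc, e⟩ := G.sel_spec R hp h
  rw [e, classInner_smul_left]
  by_cases hχ : G.sel R hp p = χ
  · rw [hχ, classInner_irr_self]
    rcases hc with rfl | rfl <;> simp
  · rw [classInner_irr_ne hχ]
    simp [hχ]

theorem Geo.sel_eq_iff (hp : Par q k M s) {p p' : (G.K →* ℂˣ) × Bool} (h : p ∈ G.pairs) (h' : p' ∈ G.pairs) :
    G.sel R hp p' = G.sel R hp p ↔ p' = p ∨ p' = (p.1⁻¹, p.2) := by
  obtain ⟨c, hc, e⟩ := G.sel_spec R hp h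
  rw [← G.inner_e R hp h' (G.sel R hp p)]
  have hc0 : c ≠ 0 := by rcases hc with rfl | rfl <;> norm_num
  have hi : classInner (G.e R p'.1 p'.2) (G.e R p.1 p.2) =
      conj c * classInner (G.e R p'.1 p'.2) (G.sel R hp p : X → ℂ) := by
    rw [e, classInner_smul_right]
  rw [show classInner (G.e R p'.1 p'.2) (G.sel R hp p : X → ℂ) ≠ 0 ↔
      classInner (G.e R p'.1 p'.2) (G.e R p.1 p.2) ≠ 0 by rw [hi]; simp [hc0],
    G.e_e R hp (G.mem_pairs.1 h') (G.mem_pairs.1 h)]
  obtain ⟨θ, b⟩ := p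
  obtain ⟨θ', b'⟩ := p'
  have hne := G.inv_ne (G.mem_pairs.1 h)
  by_cases hb : b' = b
  · subst hb
    rw [if_pos rfl]
    by_cases h1 : θ' = θ
    · subst h1; simp [hne.symm]
    · by_cases h2 : θ' = θ⁻¹
      · subst h2; simp [h1]
      · simp [h1, h2]
  · simp [hb]

theorem Geo.fibre (hp : Par q k M s) {χ : IrrCharacter X} (hχ : χ ∈ G.out R hp) :
    (G.pairs.filter fun p => G.sel R hp p = χ).card = 2 := by
  obtain ⟨p, hpp, rfl⟩ := Finset.mem_image.1 hχ
  have hp' : (p.1⁻¹, p.2) ∈ G.pairs := G.mem_pairs.2 (G.inv_ne_one (G.mem_pairs.1 hpp))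
  rw [show (G.pairs.filter fun p' => G.sel R hp p' = G.sel R hp p) = {p, (p.1⁻¹, p.2)} from
    Finset.ext fun p' => by
      simp only [Finset.mem_filter, Finset.mem_insert, Finset.mem_singleton]
      constructor
      · exact fun h => (G.sel_eq_iff R hp hpp h.1).1 h.2
      · rintro (rfl | rfl)
        exacts [⟨hpp, rfl⟩, ⟨hp', (G.sel_eq_iff R hp hpp hp').2 (Or.inr rfl)⟩]]
  refine Finset.card_pair fun h => G.inv_ne (G.mem_pairs.1 hpp) ?_
  exact (congrArg Prod.fst h).symm

theorem Geo.sum_pairs (hp : Par q k M s) (h : IrrCharacter X → ℂ) :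
    ∑ p ∈ G.pairs, h (G.sel R hp p) = 2 * ∑ χ ∈ G.out R hp, h χ := by
  rw [← Finset.sum_fiberwise_of_maps_to (t := G.out R hp) (g := G.sel R hp)
    (fun p h => Finset.mem_image_of_mem _ h), Finset.mul_sum]
  refine Finset.sum_congr rfl fun χ hχ => ?_
  rw [Finset.sum_congr rfl fun p hp' => by rw [(Finset.mem_filter.1 hp').2], Finset.sum_const, G.fibre R hp hχ,
    nsmul_eq_mul, Nat.cast_ofNat]

theorem Geo.mem_not_out (hp : Par q k M s) (i : Fin 4) : R.mem i ∉ G.out R hp := fun h => by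
  obtain ⟨p, hpp, he⟩ := Finset.mem_image.1 h
  exact (G.inner_e R hp hpp _).2 he (G.e_block R hp (G.mem_pairs.1 hpp) p.2 i)

/-- The remaining characters. -/
def Geo.J (hp : Par q k M s) : Type u := {χ : IrrCharacter X // (∀ i, R.mem i ≠ χ) ∧ χ ∉ G.out R hp}

theorem Geo.sum_split (hp : Par q k M s) (h : IrrCharacter X → ℂ) :
    ∑ χ, h χ = ∑ i, h (R.mem i) + ∑ χ ∈ G.out R hp, h χ +
      ∑ χ ∈ Finset.univ.filter (fun χ => (∀ i, R.mem i ≠ χ) ∧ χ ∉ G.out R hp), h χ := by
  have hdisj : Disjoint (Finset.univ.image R.mem) (G.out R hp) := Finset.disjoint_left.2 fun χ h1 h2 => by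
    obtain ⟨i, -, rfl⟩ := Finset.mem_image.1 h1
    exact G.mem_not_out R hp i h2
  rw [← Finset.sum_image (f := h) (fun i _ j _ e => R.mem_injective e), ← Finset.sum_union hdisj,
    ← Finset.sum_add_sum_compl (Finset.univ.image R.mem ∪ G.out R hp) h]
  congr 1
  refine Finset.sum_congr (Finset.ext fun χ => ?_) fun _ _ => rfl
  simp [eq_comm]

theorem Geo.card_hom (G : Geo X q k M) : Fintype.card (G.K →* ℂˣ) = k := by
  rw [← Nat.card_eq_fintype_card, Cfsg.Lib.Dual.card_hom G.K_comm, G.card_K]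

theorem Geo.hom_sum {y : G.K} (hy : y ≠ 1) : ∑ θ : G.K →* ℂˣ, (θ y : ℂ) = 0 := by
  obtain ⟨ω₀, hω₀⟩ := Cfsg.Lib.Dual.exists_hom_ne_one G.K_comm hy
  have h1 : (ω₀ y : ℂ) * ∑ θ : G.K →* ℂˣ, (θ y : ℂ) = ∑ θ : G.K →* ℂˣ, (θ y : ℂ) := by
    rw [Finset.mul_sum]
    exact Fintype.sum_equiv (Equiv.mulLeft ω₀) _ _ fun θ => by simp
  have h2 : ((ω₀ y : ℂ) - 1) * ∑ θ : G.K →* ℂˣ, (θ y : ℂ) = 0 := by linear_combination h1
  rcases mul_eq_zero.1 h2 with h3 | h3
  · exact absurd (Units.ext (sub_eq_zero.1 h3)) hω₀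
  · exact h3

theorem Geo.cent_t (b' : Bool) (y : G.K) (hy : b' = true ∨ y ≠ 1) :
    (Nat.card (Subgroup.centralizer ({((G.tmap (b', y) : G.T) : X)} : Set X)) : ℝ) ≤
      if y = 1 then 4 * (k : ℝ) else 2 * (k : ℝ) := by
  by_cases h1 : y = 1
  · rw [if_pos h1]
    have hb := hy.resolve_right (fun h => h h1)
    subst hb
    rw [show ((G.tmap (true, y) : G.T) : X) = G.v by simp [Geo.tmap, h1], G.card_C]
    push_cast
    rfl
  · rw [if_neg h1]
    have hle : Subgroup.centralizer ({((G.tmap (b', y) : G.T) : X)} : Set X) ≤ G.T := by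
      intro z hz
      have hc : Commute z ((G.tmap (b', y) : G.T) : X) := Subgroup.mem_centralizer_singleton_iff.1 hz
      have hzy : Commute z (y : X) := by
        have h2 := hc.pow_right (k + 1)
        have e : ((G.tmap (b', y) : G.T) : X) ^ (k + 1) = (y : X) := by
          cases b'
          · exact congrArg Subtype.val (G.proj_K y.2)
          · exact congrArg Subtype.val (G.proj_vK y.2)
        rwa [e] at h2
      exact (G.cent_y y y.2 (fun e => h1 (Subtype.ext e)) z hzy).2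
    have := Subgroup.card_le_of_le hle
    rw [G.card_T] at this
    exact_mod_cast this

/-- The remaining characters vanish on `T \ {1}`. -/
theorem Geo.J_vanish (hp : Par q k M s) {χ : IrrCharacter X} (hχ : (∀ i, R.mem i ≠ χ) ∧ χ ∉ G.out R hp) (b' : Bool)
    (y : G.K) (hy : b' = true ∨ y ≠ 1) : (χ : X → ℂ) ((G.tmap (b', y) : G.T) : X) = 0 := by
  set t : X := ((G.tmap (b', y) : G.T) : X) with ht
  set N : IrrCharacter X → ℂ := fun φ => (φ : X → ℂ) t * conj ((φ : X → ℂ) t) with hN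
  set S := Finset.univ.filter (fun φ => (∀ i, R.mem i ≠ φ) ∧ φ ∉ G.out R hp) with hS
  have hsplit := G.sum_split R hp N
  have hall : ∑ φ, N φ = (Nat.card (Subgroup.centralizer ({t} : Set X)) : ℂ) := by
    have h := congrArg (fun r : ℝ => (r : ℂ)) (sum_norm_sq_irr t)
    push_cast at h
    rw [← h]
    exact Finset.sum_congr rfl fun φ _ => by simp only [hN, Complex.mul_conj, Complex.normSq_eq_norm_sq]; push_cast; ring
  have hblock : ∑ i, N (R.mem i) = 4 := by
    have hval : ∀ i, (R.mem i : X → ℂ) t * conj ((R.mem i : X → ℂ) t) = 1 := by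
      have hs := hp.s_sq
      intro i
      cases b'
      · obtain ⟨h1, h2, h3⟩ := G.value_K R hp y (hy.resolve_left (by decide))
        fin_cases i <;> simp [Rows.mem, ht, Geo.tmap, h1, h2, h3, principal_apply, hs]
      · obtain ⟨h1, h2, h3⟩ := R.even t (G.even_vK y.2)
        fin_cases i <;> simp [Rows.mem, h1, h2, h3, principal_apply, hs]
    simp [hN, hval]
  have hout : 2 * ∑ φ ∈ G.out R hp, N φ = if y = 1 then 8 * ((k : ℂ) - 1) else 2 * (2 * (k : ℂ) - 4) := by
    rw [← G.sum_pairs R hp]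
    have e1 : ∀ p ∈ G.pairs, N (G.sel R hp p) = ((p.1 y : ℂ) + (p.1 y : ℂ)⁻¹) ^ 2 := fun p hpp => by
      obtain ⟨c, hc, e⟩ := G.sel_spec R hp hpp
      have h := G.e_tmap R hp p.1 p.2 b' y hy
      rw [e, Pi.smul_apply, smul_eq_mul, ← ht] at h
      have hcc : conj c * c = 1 := by rcases hc with rfl | rfl <;> simp
      have h' := congrArg conj h
      rw [map_mul, map_mul, map_add, map_inv₀, G.conj_theta, inv_inv] at h'
      have hb : (if b' then bs p.2 else 1) * conj (if b' then bs p.2 else 1) = 1 := by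
        cases b' <;> simp [conj_bs, bs_mul_self]
      calc N (G.sel R hp p) = (c * (G.sel R hp p : X → ℂ) t) * (conj c * conj ((G.sel R hp p : X → ℂ) t)) := by
            simp only [hN]; linear_combination (-((G.sel R hp p : X → ℂ) t * conj ((G.sel R hp p : X → ℂ) t))) * hcc
        _ = _ := by rw [h, h']; linear_combination ((p.1 y : ℂ) + (p.1 y : ℂ)⁻¹) ^ 2 * hb
    rw [Finset.sum_congr rfl e1, Geo.pairs, ← Finset.univ_product_univ,
      Finset.filter_product_left (fun θ : G.K →* ℂˣ => θ ≠ 1), Finset.sum_product]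
    simp only [Finset.sum_const, Finset.card_univ, Fintype.card_bool, nsmul_eq_mul, Nat.cast_ofNat]
    rw [← Finset.mul_sum, show ∑ θ ∈ Finset.univ.filter (fun θ : G.K →* ℂˣ => θ ≠ 1),
        ((θ y : ℂ) + (θ y : ℂ)⁻¹) ^ 2 = (∑ θ : G.K →* ℂˣ, ((θ y : ℂ) + (θ y : ℂ)⁻¹) ^ 2) - 4 by
      rw [← Finset.sum_filter_add_sum_filter_not Finset.univ (fun θ : G.K →* ℂˣ => θ ≠ 1)
        (fun θ => ((θ y : ℂ) + (θ y : ℂ)⁻¹) ^ 2),
        show (Finset.univ.filter fun θ : G.K →* ℂˣ => ¬ θ ≠ 1) = {1} by ext; simp, Finset.sum_singleton]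
      simp; norm_num]
    by_cases h1 : y = 1
    · subst h1
      rw [if_pos rfl]
      simp [G.card_hom]
      ring
    · rw [if_neg h1]
      have hy2 : y * y ≠ 1 := fun h => h1 (Subtype.ext (G.sq_ne y.2 (congrArg Subtype.val h)))
      have e : ∀ θ : G.K →* ℂˣ, ((θ y : ℂ) + (θ y : ℂ)⁻¹) ^ 2 = (θ (y * y) : ℂ) + (θ (y * y)⁻¹ : ℂ) + 2 := fun θ => by
        have h0 : (θ y : ℂ) ≠ 0 := (θ y).ne_zero
        simp only [map_inv, map_mul, Units.val_inv_eq_inv_val, Units.val_mul]
        field_simp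
        ring
      rw [Finset.sum_congr rfl fun θ _ => e θ, Finset.sum_add_distrib, Finset.sum_add_distrib, G.hom_sum hy2,
        G.hom_sum (fun h : (y * y)⁻¹ = 1 => hy2 (by rw [← inv_inv (y * y), h, inv_one])), Finset.sum_const, Finset.card_univ, G.card_hom, nsmul_eq_mul]
      ring
  have hJ : ((∑ φ ∈ S, Complex.normSq ((φ : X → ℂ) t) : ℝ) : ℂ) =
      (Nat.card (Subgroup.centralizer ({t} : Set X)) : ℂ) - (if y = 1 then 4 * (k : ℂ) else 2 * (k : ℂ)) := by
    rw [Complex.ofReal_sum]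
    simp only [← Complex.mul_conj]
    rw [hall, hblock] at hsplit
    show ∑ φ ∈ S, N φ = _
    split_ifs at hout ⊢ <;> linear_combination -hsplit - (1 / 2 : ℂ) * hout
  have hle : ∑ φ ∈ S, Complex.normSq ((φ : X → ℂ) t) ≤ 0 := by
    have hc := G.cent_t b' y hy
    rw [← ht] at hc
    split_ifs at hJ hc with h1
    · have hr : ∑ φ ∈ S, Complex.normSq ((φ : X → ℂ) t) =
          (Nat.card (Subgroup.centralizer ({t} : Set X)) : ℝ) - 4 * (k : ℝ) := by
        apply Complex.ofReal_injective; rw [hJ]; push_cast; ring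
      linarith
    · have hr : ∑ φ ∈ S, Complex.normSq ((φ : X → ℂ) t) =
          (Nat.card (Subgroup.centralizer ({t} : Set X)) : ℝ) - 2 * (k : ℝ) := by
        apply Complex.ofReal_injective; rw [hJ]; push_cast; ring
      linarith
  have h0 := (Finset.sum_eq_zero_iff_of_nonneg fun φ _ => Complex.normSq_nonneg _).1
    (le_antisymm hle (Finset.sum_nonneg fun φ _ => Complex.normSq_nonneg _)) χ
    (Finset.mem_filter.2 ⟨Finset.mem_univ _, hχ⟩)
  exact Complex.normSq_eq_zero.1 h0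

/-- An element of even order is conjugate to an element of `vK`. -/
theorem Geo.conj_vK {g : X} (hg : ¬ Odd (orderOf g)) : ∃ y : G.K, IsConj (G.v * (y : X)) g := by
  obtain ⟨P⟩ := (inferInstance : Nonempty (Sylow 2 X))
  obtain ⟨hP, hexp⟩ := G.sylow P
  obtain ⟨x, y, hx, rfl, hc, hy⟩ := exists_involution_decomp hP hexp (not_odd_iff.1 hg)
  obtain ⟨c, hcx⟩ := isConj_iff.1 (G.one x G.v hx G.v_ord)
  have hm : c * y * c⁻¹ ∈ G.K := (G.comm _).2 ⟨by
    rw [← MulAut.conj_apply, MulEquiv.orderOf_eq]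
    exact not_not.1 fun h => hy (not_odd_iff.1 h), by
    rw [← hcx]
    exact (hc.symm.map (MulAut.conj c).toMonoidHom)⟩
  refine ⟨⟨_, hm⟩, (isConj_iff.2 ⟨c, ?_⟩).symm⟩
  rw [← hcx]
  simp [mul_assoc]

theorem Geo.J_even (hp : Par q k M s) {χ : IrrCharacter X} (hχ : (∀ i, R.mem i ≠ χ) ∧ χ ∉ G.out R hp) {g : X}
    (hg : ¬ Odd (orderOf g)) : (χ : X → ℂ) g = 0 := by
  obtain ⟨y, hy⟩ := G.conj_vK hg
  rw [← classFunction_eq_of_isConj (isClassFunction_irr χ) hy]
  exact G.J_vanish R hp hχ true y (Or.inl rfl)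

/-- The functions of the torus `K`. -/
noncomputable def Geo.phi (θ : G.K →* ℂˣ) : X → ℂ := G.e R θ false + G.e R θ true

theorem Geo.phi_gen (θ : G.K →* ℂˣ) : IsGeneralizedCharacter X (G.phi R θ) :=
  IsGeneralizedCharacter.add (G.gen_e R θ false) (G.gen_e R θ true)

theorem Geo.phi_even (hp : Par q k M s) (θ : G.K →* ℂˣ) {g : X} (hg : ¬ Odd (orderOf g)) : G.phi R θ g = 0 := by
  obtain ⟨y, hy⟩ := G.conj_vK hg
  rw [← classFunction_eq_of_isConj (isClassFunction_generalized (G.phi_gen R θ)) hy]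
  show G.e R θ false (G.tmap (true, y)) + G.e R θ true (G.tmap (true, y)) = 0
  rw [G.e_tmap R hp θ false true y (Or.inl rfl), G.e_tmap R hp θ true true y (Or.inl rfl)]
  simp [bs]

/-- A function orthogonal to `x`, `al`, `be`, to the torus functions and to the remaining characters vanishes at
`1`. -/
theorem Geo.complete (hp : Par q k M s) {f : X → ℂ} (hf : IsClassFunction X f) (hx : classInner f R.x = 0)
    (ha : classInner f R.al = 0) (hb : classInner f R.be = 0) (hphi : ∀ θ, θ ≠ 1 → classInner f (G.phi R θ) = 0)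
    (hJ : ∀ χ : IrrCharacter X, (∀ i, R.mem i ≠ χ) ∧ χ ∉ G.out R hp → classInner f (χ : X → ℂ) = 0) : f 1 = 0 := by
  rw [classFunction_expand_apply hf 1, G.sum_split R hp, Finset.sum_eq_zero (s := Finset.univ.filter _) fun χ hχ => by
    rw [hJ χ (Finset.mem_filter.1 hχ).2, zero_mul], add_zero]
  have h1 : ∑ i, classInner f (R.mem i : X → ℂ) * (R.mem i : X → ℂ) 1 = 0 := by
    rw [Rows.x, R.inner_comb] at hx
    rw [Rows.al, R.inner_comb] at ha
    rw [Rows.be, R.inner_comb] at hb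
    simp [Fin.sum_univ_four] at hx ha hb
    simp only [Fin.sum_univ_four, irr_apply_one_eq_deg, show R.mem 0 = principal X from rfl,
      show R.mem 1 = R.St from rfl, show R.mem 2 = R.a from rfl, show R.mem 3 = R.b from rfl, R.deg_St, R.deg_a,
      R.deg_b, deg_principal, Nat.cast_one, hp.q_eqC, hp.M_eqC] at hx ha hb ⊢
    have hs := hp.s_sq
    generalize classInner f (principal X : X → ℂ) = f0 at hx ha hb ⊢
    generalize classInner f (R.St : X → ℂ) = f1 at hx ha hb ⊢
    generalize classInner f (R.a : X → ℂ) = f2 at hx ha hb ⊢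
    generalize classInner f (R.b : X → ℂ) = f3 at hx ha hb ⊢
    linear_combination -hx + (1 + 2 * (s : ℂ) * k) * ha + (1 + 2 * (s : ℂ) * k) * hb
      - (f1 + 2 * (k : ℂ) * f1 * 0) * 0
      - ((2 * (k : ℂ) * f2 + 2 * (k : ℂ) * f3 + 4 * (k : ℂ) * f1)) * hs
  have h2 : ∑ χ ∈ G.out R hp, classInner f (χ : X → ℂ) * (χ : X → ℂ) 1 = 0 := by
    refine mul_left_cancel₀ (two_ne_zero (α := ℂ)) ?_
    rw [← G.sum_pairs R hp, mul_zero]
    rw [Finset.sum_congr rfl fun p hpp => show classInner f (G.sel R hp p : X → ℂ) * (G.sel R hp p : X → ℂ) 1 =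
        classInner f (G.e R p.1 p.2) * ((s : ℂ) * q + 1) by
      obtain ⟨c, hc, e⟩ := G.sel_spec R hp hpp
      have h := G.e_one R hp p.1 p.2
      rw [e] at h
      rw [← h, e, classInner_smul_right, Pi.smul_apply, smul_eq_mul]
      rcases hc with rfl | rfl <;> simp, ← Finset.sum_mul]
    rw [Geo.pairs, ← Finset.univ_product_univ, Finset.filter_product_left (fun θ : G.K →* ℂˣ => θ ≠ 1),
      Finset.sum_product]
    refine mul_eq_zero_of_left (Finset.sum_eq_zero fun θ hθ => ?_) _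
    rw [Fintype.sum_bool, add_comm, ← classInner_add_right]
    exact hphi θ (Finset.mem_filter.1 hθ).2
  rw [h1, h2, add_zero]

end Cfsg.Lib.Ree.PSL
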