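import Cfsg.Agent.Ree.Setting
import Cfsg.Agent.Blocks.Columns

/-!
The functions on `PSL(2, q)` used at the section of the involution; see `notes/ree_order_v1.md`, part A.

`x`, `al`, `be` span the projective functions of the principal 2-block, `(-1, A, B)` is the dual basis on the
elements of odd order, `phi` belongs to the torus `K` in the centralizer of the involution `v`, `psi` to the
other torus.
-/

set_option autoImplicit false

namespace Cfsg.Lib.Ree

open Cfsg Cfsg.Lib.Blocks
open scoped ComplexConjugate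

universe u v

variable {X : Type u} [Group X] [Fintype X]

/-- A class function which is a generalized character and vanishes on elements of even order. -/
def IsSpecial (f : X → ℂ) : Prop :=
  IsClassFunction X f ∧ IsGeneralizedCharacter X f ∧ ∀ y : X, ¬ Odd (orderOf y) → f y = 0

/-- Twice the number of involutions `w` such that `w * y` is an involution. -/
noncomputable def pairCount (y : X) : ℂ :=
  2 * (Nat.card {w : X // orderOf w = 2 ∧ (w * y) * (w * y) = 1} : ℂ)

/-- The data of `PSL(2, q)`, `Q = ± q ≡ 5 (mod 8)`. -/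
structure PSLTable (X : Type u) [Group X] [Fintype X] (Q : ℤ) where
  x : X → ℂ
  al : X → ℂ
  be : X → ℂ
  A : X → ℂ
  B : X → ℂ
  spec_x : IsSpecial x
  spec_al : IsSpecial al
  spec_be : IsSpecial be
  class_A : IsClassFunction X A
  class_B : IsClassFunction X B
  inner_xx : classInner x x = 2
  inner_aa : classInner al al = 2
  inner_bb : classInner be be = 2
  inner_xa : classInner x al = 1
  inner_xb : classInner x be = 1
  inner_ab : classInner al be = 1
  inner_x_one : classInner x (fun _ => 1) = -1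
  inner_al_one : classInner al (fun _ => 1) = 0
  inner_be_one : classInner be (fun _ => 1) = 0
  dual : classInner A x = 0 ∧ classInner A al = 1 ∧ classInner A be = 0 ∧
    classInner B x = 0 ∧ classInner B al = 0 ∧ classInner B be = 1
  A_one : A 1 = (((Q + 1) / 2 : ℤ) : ℂ)
  B_one : B 1 = (((Q + 1) / 2 : ℤ) : ℂ)
  conj_x : ∀ y, conj (x y) = x y
  conj_table : (∀ y, conj (al y) = al y ∧ conj (be y) = be y) ∨ (∀ y, conj (al y) = be y ∧ conj (be y) = al y)
  /-- the principal block on the elements of odd order -/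
  block : ∀ (M : Ideal AlgInt), IsPModular 2 M → ∀ f : X → ℂ, IsClassFunction X f → ∀ y : X, Odd (orderOf y) →
    blockPart (principalBlock M X) f y = -classInner f x + classInner f al * A y + classInner f be * B y
  count_x : classInner pairCount x = -((Q.sign : ℂ) * ((Q : ℂ) + 1))
  count_al : classInner pairCount al = (Q.sign : ℂ) * (3 * (Q : ℂ) + 1) / ((Q : ℂ) - 1)
  count_be : classInner pairCount be = (Q.sign : ℂ) * (3 * (Q : ℂ) + 1) / ((Q : ℂ) - 1)
  /-- an involution and the torus in its centralizer -/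
  v : X
  K : Subgroup X
  v_ord : orderOf v = 2
  card_K : Nat.card K = ((Q - 1) / 4).natAbs
  cyclic : IsCyclic K
  comm : ∀ y : X, y ∈ K ↔ (Odd (orderOf y) ∧ Commute y v)
  torus : ∀ y ∈ K, y ≠ 1 → A y = 1 ∧ B y = 1 ∧ x y = 0 ∧ al y = 2 ∧ be y = 2
  /-- the functions of the torus `K` -/
  phi : (K →* ℂˣ) → X → ℂ
  phi_spec : ∀ θ, θ ≠ 1 → IsSpecial (phi θ) ∧ classInner (phi θ) (phi θ) = 2 ∧
    classInner (phi θ) x = 0 ∧ classInner (phi θ) al = 0 ∧ classInner (phi θ) be = 0 ∧
    phi θ 1 = 2 * ((Q : ℂ) + 1) ∧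
    ∀ (y : X) (hy : y ∈ K), y ≠ 1 → phi θ y = 2 * ((θ ⟨y, hy⟩ : ℂ) + (θ ⟨y, hy⟩ : ℂ)⁻¹)
  phi_block : ∀ (M : Ideal AlgInt), IsPModular 2 M → ∀ θ, θ ≠ 1 → ∀ χ : IrrCharacter X,
    χ ∈ principalBlock M X → classInner (phi θ) (χ : X → ℂ) = 0
  phi_orth : ∀ θ θ', θ ≠ 1 → θ' ≠ 1 → θ' ≠ θ → θ' ≠ θ⁻¹ → classInner (phi θ) (phi θ') = 0
  /-- the functions of the other torus -/
  J : Type u
  psi : J → X → ℂ
  psi_spec : ∀ j, IsSpecial (psi j) ∧ classInner (psi j) (psi j) = 1 ∧ ∀ y ∈ K, y ≠ 1 → psi j y = 0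
  psi_block : ∀ (M : Ideal AlgInt), IsPModular 2 M → ∀ j, ∀ χ : IrrCharacter X,
    χ ∈ principalBlock M X → classInner (psi j) (χ : X → ℂ) = 0
  /-- a function orthogonal to all of them vanishes at the identity -/
  complete : ∀ f : X → ℂ, IsClassFunction X f → classInner f x = 0 → classInner f al = 0 → classInner f be = 0 →
    (∀ θ, θ ≠ 1 → classInner f (phi θ) = 0) → (∀ j, classInner f (psi j) = 0) → f 1 = 0

/-- The target of the piece. -/
def PSLSpec : Prop :=
  ∀ (F : Type v) [Field F] [Fintype F] (X : Type u) [Group X] [Fintype X],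
    (Fintype.card F % 8 = 3 ∨ Fintype.card F % 8 = 5) → 11 ≤ Fintype.card F →
    Nonempty (X ≃* Matrix.ProjectiveSpecialLinearGroup (Fin 2) F) →
    Nonempty (PSLTable X (signedCard F))

end Cfsg.Lib.Ree
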