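import Cfsg.Agent.Ree.PSL.Rows
import Cfsg.Agent.OddChar.Dual
import Cfsg.Agent.Chars.Induced

/-!
The functions induced from the centralizer `T = K ∪ vK` of the nontrivial elements of `K`: values on `T` and inner
products.
-/

set_option autoImplicit false
set_option linter.unusedSectionVars false
set_option linter.style.haveILetI false

namespace Cfsg.Lib.Ree.PSL

open Cfsg Cfsg.Lib.Blocks Cfsg.Lib.Chars
open scoped ComplexConjugate

universe u

attribute [local instance] _root_.Classical.propDecidable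

/-- `1` for `false`, `-1` for `true`. -/
def bs (b : Bool) : ℂ := if b then -1 else 1

theorem conj_bs (b : Bool) : conj (bs b) = bs b := by cases b <;> simp [bs]

theorem bs_mul_self (b : Bool) : bs b * bs b = 1 := by cases b <;> simp [bs]

theorem eq_one_of_odd_pow {H : Type*} [Monoid H] {x : H} {n : ℕ} (hn : Odd n) (hx : x * x = 1) (h : x ^ n = 1) :
    x = 1 := by
  obtain ⟨c, rfl⟩ := hn
  rwa [pow_succ, pow_mul, pow_two, hx, one_pow, one_mul] at h

variable {X : Type u} [Group X] [Fintype X] {q k M : ℕ} (G : Geo X q k M)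

theorem Geo.comm_v {y : X} (hy : y ∈ G.K) : Commute y G.v := ((G.comm y).1 hy).2

theorem Geo.v_not_mem : G.v ∉ G.K := fun h => by
  have := ((G.comm _).1 h).1
  rw [G.v_ord] at this
  exact absurd this (by decide)

theorem Geo.v_mul_self : G.v * G.v = 1 := by rw [← pow_two, ← G.v_ord, pow_orderOf_eq_one]

theorem Geo.K_comm (a b : G.K) : a * b = b * a := by
  haveI := G.cyclic
  obtain ⟨c, hc⟩ := IsCyclic.exists_generator (α := G.K)
  obtain ⟨i, rfl⟩ := Subgroup.mem_zpowers_iff.1 (hc a)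
  obtain ⟨j, rfl⟩ := Subgroup.mem_zpowers_iff.1 (hc b)
  rw [← zpow_add, ← zpow_add, add_comm]

theorem Geo.pow_k {y : X} (hy : y ∈ G.K) : y ^ k = 1 := by
  have h := pow_card_eq_one' (x := (⟨y, hy⟩ : G.K))
  rw [G.card_K] at h
  exact congrArg Subtype.val h

theorem Geo.sq_ne {y : X} (hy : y ∈ G.K) (h : y * y = 1) : y = 1 := by
  exact eq_one_of_odd_pow G.k_odd h (G.pow_k hy)

theorem Geo.v_pow : G.v ^ (k + 1) = 1 :=
  orderOf_dvd_iff_pow_eq_one.1 (by rw [G.v_ord]; exact even_iff_two_dvd.1 G.k_odd.add_one)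

/-- The centralizer of the nontrivial elements of `K`. -/
def Geo.T : Subgroup X where
  carrier := {z | ∃ y ∈ G.K, z = y ∨ z = G.v * y}
  one_mem' := ⟨1, one_mem _, Or.inl rfl⟩
  mul_mem' := by
    rintro _ _ ⟨y, hy, rfl | rfl⟩ ⟨y', hy', rfl | rfl⟩
    · exact ⟨_, mul_mem hy hy', Or.inl rfl⟩
    · exact ⟨_, mul_mem hy hy', Or.inr (by rw [← mul_assoc, (G.comm_v hy).eq, mul_assoc])⟩
    · exact ⟨_, mul_mem hy hy', Or.inr (mul_assoc _ _ _)⟩
    · exact ⟨_, mul_mem hy hy', Or.inl (by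
        rw [mul_assoc, ← mul_assoc y, (G.comm_v hy).eq, mul_assoc, ← mul_assoc G.v, G.v_mul_self, one_mul])⟩
  inv_mem' := by
    rintro _ ⟨y, hy, rfl | rfl⟩
    · exact ⟨_, inv_mem hy, Or.inl rfl⟩
    · exact ⟨_, inv_mem hy, Or.inr (by
        rw [_root_.mul_inv_rev, inv_eq_of_mul_eq_one_right G.v_mul_self, (G.comm_v hy).inv_left.eq])⟩

theorem Geo.mem_T_K {y : X} (hy : y ∈ G.K) : y ∈ G.T := ⟨y, hy, Or.inl rfl⟩

theorem Geo.mem_T_vK {y : X} (hy : y ∈ G.K) : G.v * y ∈ G.T := ⟨y, hy, Or.inr rfl⟩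

theorem Geo.vK_not_mem {y : X} (hy : y ∈ G.K) : G.v * y ∉ G.K := fun h =>
  G.v_not_mem (by simpa using mul_mem h (inv_mem hy))

/-- The parametrization of `T`. -/
def Geo.tmap : Bool × G.K → G.T
  | (false, y) => ⟨y, G.mem_T_K y.2⟩
  | (true, y) => ⟨G.v * y, G.mem_T_vK y.2⟩

theorem Geo.tmap_bij : Function.Bijective G.tmap := by
  constructor
  · rintro ⟨b, y⟩ ⟨b', y'⟩ h
    have h' := congrArg Subtype.val h
    cases b <;> cases b' <;> simp only [Geo.tmap] at h'
    · rw [Subtype.ext h']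
    · exact absurd (h' ▸ y.2) (G.vK_not_mem y'.2)
    · exact absurd (h'.symm ▸ y'.2) (G.vK_not_mem y.2)
    · rw [Subtype.ext (mul_left_cancel h')]
  · rintro ⟨z, y, hy, hz⟩
    rcases hz with h | h
    exacts [⟨(false, ⟨y, hy⟩), Subtype.ext h.symm⟩, ⟨(true, ⟨y, hy⟩), Subtype.ext h.symm⟩]

theorem Geo.sum_T (h : G.T → ℂ) :
    ∑ t, h t = ∑ y : G.K, (h ⟨y, G.mem_T_K y.2⟩ + h ⟨G.v * y, G.mem_T_vK y.2⟩) := by
  rw [← Fintype.sum_equiv (Equiv.ofBijective _ G.tmap_bij) (fun p => h (G.tmap p)) h fun _ => rfl,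
    Fintype.sum_prod_type, Fintype.sum_bool, Finset.sum_add_distrib, add_comm]
  rfl

theorem Geo.card_T : Nat.card G.T = 2 * k := by
  rw [← Nat.card_congr (Equiv.ofBijective _ G.tmap_bij), Nat.card_prod, G.card_K]
  simp [Nat.card_eq_fintype_card]

theorem Geo.proj_mem (t : G.T) : (t : X) ^ (k + 1) ∈ G.K := by
  obtain ⟨_, y, hy, rfl | rfl⟩ := t
  · exact pow_mem hy _
  · rw [(G.comm_v hy).symm.mul_pow, G.v_pow, one_mul]
    exact pow_mem hy _

theorem Geo.T_comm (a b : G.T) : Commute (a : X) b := by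
  obtain ⟨a, y, hy, ha⟩ := a
  obtain ⟨b, y', hy', hb⟩ := b
  have h : Commute y y' := congrArg Subtype.val (G.K_comm ⟨y, hy⟩ ⟨y', hy'⟩)
  show Commute a b
  rcases ha with rfl | rfl <;> rcases hb with rfl | rfl
  · exact h
  · exact (G.comm_v hy).mul_right h
  · exact (G.comm_v hy').symm.mul_left h
  · exact ((Commute.refl G.v).mul_right (G.comm_v hy').symm).mul_left ((G.comm_v hy).mul_right h)

/-- The projection to `K`. -/
def Geo.proj : G.T →* G.K where
  toFun t := ⟨(t : X) ^ (k + 1), G.proj_mem t⟩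
  map_one' := by simp
  map_mul' a b := Subtype.ext (by simp [(G.T_comm a b).mul_pow])

theorem Geo.proj_K {y : X} (hy : y ∈ G.K) : G.proj ⟨y, G.mem_T_K hy⟩ = ⟨y, hy⟩ :=
  Subtype.ext (by simp [Geo.proj, pow_succ, G.pow_k hy])

theorem Geo.proj_vK {y : X} (hy : y ∈ G.K) : G.proj ⟨G.v * y, G.mem_T_vK hy⟩ = ⟨y, hy⟩ := by
  refine Subtype.ext ?_
  show (G.v * y) ^ (k + 1) = y
  rw [(G.comm_v hy).symm.mul_pow, G.v_pow, one_mul, pow_succ, G.pow_k hy, one_mul]

/-- The character of `T` with kernel `K`. -/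
noncomputable def Geo.eta : G.T →* ℂˣ where
  toFun t := if (t : X) ∈ G.K then 1 else -1
  map_one' := by simp
  map_mul' a b := by
    obtain ⟨a, ha⟩ := a
    obtain ⟨b, hb⟩ := b
    obtain ⟨y, hy, rfl | rfl⟩ := ha <;> obtain ⟨y', hy', rfl | rfl⟩ := hb <;>
      simp only [Subgroup.coe_mul]
    · rw [if_pos (mul_mem hy hy'), if_pos hy, if_pos hy', one_mul]
    · rw [if_pos hy, if_neg (G.vK_not_mem hy'), one_mul, if_neg]
      rw [← mul_assoc, (G.comm_v hy).eq, mul_assoc]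
      exact G.vK_not_mem (mul_mem hy hy')
    · rw [if_pos hy', if_neg (G.vK_not_mem hy), mul_one, if_neg]
      rw [mul_assoc]
      exact G.vK_not_mem (mul_mem hy hy')
    · rw [if_neg (G.vK_not_mem hy), if_neg (G.vK_not_mem hy'), if_pos]
      · simp
      rw [mul_assoc, ← mul_assoc y, (G.comm_v hy).eq, mul_assoc, ← mul_assoc G.v, G.v_mul_self, one_mul]
      exact mul_mem hy hy'

/-- `(θ - 1)` on `T`, twisted by `η` for `b = true`. -/
noncomputable def Geo.f (θ : G.K →* ℂˣ) (b : Bool) (t : G.T) : ℂ :=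
  (if b then (G.eta t : ℂ) else 1) * ((θ (G.proj t) : ℂ) - 1)

/-- The induced function. -/
noncomputable def Geo.F (θ : G.K →* ℂˣ) (b : Bool) : X → ℂ := indFun G.T (G.f θ b)

theorem Geo.f_K (θ : G.K →* ℂˣ) (b : Bool) (y : G.K) : G.f θ b ⟨y, G.mem_T_K y.2⟩ = (θ y : ℂ) - 1 := by
  cases b <;> simp [Geo.f, Geo.eta, G.proj_K y.2]

theorem Geo.f_vK (θ : G.K →* ℂˣ) (b : Bool) (y : G.K) :
    G.f θ b ⟨G.v * y, G.mem_T_vK y.2⟩ = bs b * ((θ y : ℂ) - 1) := by
  cases b <;> simp [Geo.f, Geo.eta, G.proj_vK y.2, G.vK_not_mem y.2, bs]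

theorem Geo.gen_F (θ : G.K →* ℂˣ) (b : Bool) : IsGeneralizedCharacter X (G.F θ b) := by
  refine IsGeneralizedCharacter.indFun ?_
  cases b
  · have h := IsGeneralizedCharacter.sub (IsCharacter.isGeneralized (isCharacter_linear (θ.comp G.proj)))
      (IsCharacter.isGeneralized (isCharacter_one (G := G.T)))
    convert h using 1
    funext t
    simp [Geo.f]
  · have h := IsGeneralizedCharacter.sub
      (IsCharacter.isGeneralized (isCharacter_linear (G.eta * θ.comp G.proj)))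
      (IsCharacter.isGeneralized (isCharacter_linear G.eta))
    convert h using 1
    funext t
    simp [Geo.f, mul_sub]

theorem Geo.class_F (θ : G.K →* ℂˣ) (b : Bool) : IsClassFunction X (G.F θ b) := isClassFunction_indFun _ _

theorem Geo.F_one (θ : G.K →* ℂˣ) (b : Bool) : G.F θ b 1 = 0 := by
  rw [Geo.F, indFun_one]
  cases b <;> simp [Geo.f]

/-- `θ + θ⁻¹ - 2`. -/
noncomputable def Geo.D (θ : G.K →* ℂˣ) (y : G.K) : ℂ := (θ y : ℂ) + (θ y : ℂ)⁻¹ - 2

theorem Geo.eq_v {z y : X} (hy : y ∈ G.K) (hy1 : y ≠ 1) (hz : orderOf z = 2) (hc : Commute z y) : z = G.v := by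
  obtain ⟨-, y', hy', rfl | rfl⟩ := G.cent_y y hy hy1 z hc
  · have h := ((G.comm _).1 hy').1
    rw [hz] at h
    exact absurd h (by decide)
  · have h : y' = 1 := G.sq_ne hy' (by
      have e : (G.v * y') * (G.v * y') = 1 := by rw [← pow_two, ← hz, pow_orderOf_eq_one]
      rw [mul_assoc, ← mul_assoc y', (G.comm_v hy').eq, mul_assoc, ← mul_assoc G.v, G.v_mul_self, one_mul] at e
      exact e)
    rw [h, mul_one]

theorem Geo.F_value (θ : G.K →* ℂˣ) (b b' : Bool) (y : G.K) :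
    G.F θ b ((G.tmap (b', y) : G.T) : X) = (if b' then bs b else 1) * G.D θ y := by
  set c : ℂ := if b' then bs b else 1 with hc
  set t : X := ((G.tmap (b', y) : G.T) : X) with ht
  have htT : t ∈ G.T := (G.tmap (b', y)).2
  by_cases hy : y = 1
  · have hD : G.D θ y = 0 := by rw [hy, Geo.D, map_one, Units.val_one, inv_one]; norm_num
    rw [hD, mul_zero, Geo.F, indFun_apply]
    refine mul_eq_zero_of_right _ (Finset.sum_eq_zero fun z _ => ?_)
    by_cases hz : z⁻¹ * t * z ∈ G.T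
    · obtain ⟨u, hu, he⟩ := id hz
      have hz2 : (z⁻¹ * t * z) * (z⁻¹ * t * z) = 1 := by
        have e : t * t = 1 := by
          cases b' <;> simp [ht, Geo.tmap, hy, G.v_mul_self]
        calc z⁻¹ * t * z * (z⁻¹ * t * z) = z⁻¹ * (t * t) * z := by group
          _ = 1 := by rw [e]; group
      have hu1 : u = 1 := G.sq_ne hu (by
        rcases he with he | he <;> rw [he] at hz2
        · exact hz2
        · rwa [mul_assoc, ← mul_assoc u, (G.comm_v hu).eq, mul_assoc, ← mul_assoc G.v, G.v_mul_self, one_mul] at hz2)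
      rw [extendByZero_mem _ hz]
      subst hu1
      rcases he with he | he
      · rw [show (⟨z⁻¹ * t * z, hz⟩ : G.T) = ⟨((1 : G.K) : X), G.mem_T_K (1 : G.K).2⟩ from Subtype.ext he, G.f_K]
        simp
      · rw [show (⟨z⁻¹ * t * z, hz⟩ : G.T) = ⟨G.v * ((1 : G.K) : X), G.mem_T_vK (1 : G.K).2⟩ from Subtype.ext he,
          G.f_vK]
        simp
    · exact extendByZero_not_mem _ hz
  have hy1 : (y : X) ≠ 1 := fun h => hy (Subtype.ext h)
  have hyy : (y : X) * y ≠ 1 := fun h => hy1 (G.sq_ne y.2 h)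
  have htt : t * t = (y : X) * y := by
    cases b'
    · rfl
    · show G.v * y * (G.v * y) = _
      rw [mul_assoc, ← mul_assoc (y : X), (G.comm_v y.2).eq, mul_assoc, ← mul_assoc G.v, G.v_mul_self, one_mul]
  have hval : ∀ d : G.K, G.f θ b (G.tmap (b', d)) = c * ((θ d : ℂ) - 1) := fun d => by
    cases b'
    · simp [c, Geo.tmap, G.f_K]
    · simp [c, Geo.tmap, G.f_vK]
  have key : ∀ z : X, extendByZero G.T (G.f θ b) (z⁻¹ * t * z) =
      if Commute z G.v then
        (if ∃ u ∈ G.K, z = u ∨ z = G.v * u then c * ((θ y : ℂ) - 1) else c * ((θ y⁻¹ : ℂ) - 1)) else 0 := by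
    intro z
    by_cases hz : Commute z G.v
    · rw [if_pos hz]
      split_ifs with hu
      · have e : z⁻¹ * t * z = t := by
          have h : Commute z t := G.T_comm ⟨z, hu⟩ ⟨t, htT⟩
          rw [mul_assoc, ← h.eq, inv_mul_cancel_left]
        rw [e, extendByZero_mem _ htT]
        exact hval y
      · obtain ⟨u, hu', hzu⟩ : ∃ u ∈ G.T, z = G.w * u := by
          obtain ⟨u, hu', h | h | h | h⟩ := G.C_cases z hz
          · exact absurd ⟨u, hu', Or.inl h⟩ hu
          · exact absurd ⟨u, hu', Or.inr h⟩ hu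
          · exact ⟨u, G.mem_T_K hu', h⟩
          · exact ⟨G.v * u, G.mem_T_vK hu', by rw [h, ← G.wv.eq, mul_assoc]⟩
        have hw2 : G.w * G.w = 1 := by rw [← pow_two, ← G.w_ord, pow_orderOf_eq_one]
        have hwi : G.w⁻¹ = G.w := inv_eq_of_mul_eq_one_right hw2
        have e1 : G.w⁻¹ * t * G.w = ((G.tmap (b', y⁻¹) : G.T) : X) := by
          have hy' : G.w⁻¹ * y * G.w = (y : X)⁻¹ := by
            have h := G.inverts y y.2
            rw [hwi] at h ⊢
            exact h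
          cases b'
          · exact hy'
          · show G.w⁻¹ * (G.v * y) * G.w = G.v * (y : X)⁻¹
            rw [← hy', ← mul_assoc, ← mul_assoc, ← mul_assoc, G.wv.inv_left.eq]
        have e2 : z⁻¹ * t * z = ((G.tmap (b', y⁻¹) : G.T) : X) := by
          rw [hzu, show (G.w * u)⁻¹ * t * (G.w * u) = u⁻¹ * (G.w⁻¹ * t * G.w) * u by group, e1, mul_assoc,
            ← (G.T_comm ⟨u, hu'⟩ _).eq, inv_mul_cancel_left]
        rw [e2, extendByZero_mem _ (G.tmap (b', y⁻¹)).2]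
        exact hval y⁻¹
    · rw [if_neg hz]
      refine extendByZero_not_mem _ fun hmem => hz ?_
      have hzv : orderOf (z * G.v * z⁻¹) = 2 := by
        rw [← MulAut.conj_apply, MulEquiv.orderOf_eq]; exact G.v_ord
      have hcT : Commute G.v (z⁻¹ * t * z) := G.T_comm ⟨G.v, by simpa using G.mem_T_vK (one_mem G.K)⟩ ⟨_, hmem⟩
      have hct : Commute (z * G.v * z⁻¹) t := by
        have h := hcT.map (MulAut.conj z).toMonoidHom
        simpa [mul_assoc] using h
      have hcy : Commute (z * G.v * z⁻¹) ((y : X) * y) := htt ▸ hct.mul_right hct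
      exact mul_inv_eq_iff_eq_mul.1 (G.eq_v (mul_mem y.2 y.2) hyy hzv hcy)
  rw [Geo.F, indFun_apply, Finset.sum_congr rfl fun z _ => key z, ← Finset.sum_filter]
  have hC : (Finset.univ.filter fun z : X => Commute z G.v).card = 4 * k := by
    rw [← G.card_C, Nat.card_eq_fintype_card, Fintype.card_subtype]
    exact congrArg Finset.card (Finset.filter_congr fun z _ => (Subgroup.mem_centralizer_singleton_iff).symm)
  have hT : ((Finset.univ.filter fun z : X => Commute z G.v).filter fun z => ∃ u ∈ G.K, z = u ∨ z = G.v * u).card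
      = 2 * k := by
    rw [← G.card_T, Nat.card_eq_fintype_card, Fintype.card_subtype, Finset.filter_filter]
    refine congrArg Finset.card (Finset.filter_congr fun z _ => ⟨fun h => h.2, fun h => ⟨?_, h⟩⟩)
    exact G.T_comm ⟨z, h⟩ ⟨G.v, by simpa using G.mem_T_vK (one_mem G.K)⟩
  have hN := Finset.card_filter_add_card_filter_not (s := Finset.univ.filter fun z : X => Commute z G.v)
    (fun z => ∃ u ∈ G.K, z = u ∨ z = G.v * u)
  rw [hC, hT] at hN
  rw [Finset.sum_ite, Finset.sum_const, Finset.sum_const, hT, nsmul_eq_mul, nsmul_eq_mul, G.card_T,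
    show (Finset.filter (fun z => ¬ ∃ u ∈ G.K, z = u ∨ z = G.v * u)
      (Finset.univ.filter fun z : X => Commute z G.v)).card = 2 * k by omega, Geo.D, map_inv,
    Units.val_inv_eq_inv_val]
  have hk : (k : ℂ) ≠ 0 := by have := G.k_pos; exact_mod_cast (by omega : k ≠ 0)
  push_cast
  field_simp
  ring

theorem Geo.F_K (θ : G.K →* ℂˣ) (b : Bool) (y : G.K) : G.F θ b (y : X) = G.D θ y := by
  simpa [Geo.tmap] using G.F_value θ b false y

theorem Geo.F_vK (θ : G.K →* ℂˣ) (b : Bool) (y : G.K) : G.F θ b (G.v * y) = bs b * G.D θ y := by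
  simpa [Geo.tmap] using G.F_value θ b true y

theorem Geo.inner_F (θ : G.K →* ℂˣ) (b : Bool) {h : X → ℂ} (hh : IsClassFunction X h) :
    classInner (G.F θ b) h =
      (2 * (k : ℂ))⁻¹ * ∑ y : G.K, ((θ y : ℂ) - 1) * (conj (h y) + bs b * conj (h (G.v * y))) := by
  rw [Geo.F, frobenius_reciprocity G.T _ hh, classInner_def, G.card_T, G.sum_T]
  push_cast
  congr 1
  refine Finset.sum_congr rfl fun y _ => ?_
  rw [G.f_K, G.f_vK]
  ring

theorem Geo.conj_theta (θ : G.K →* ℂˣ) (y : G.K) : conj (θ y : ℂ) = (θ y : ℂ)⁻¹ := by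
  have h := IsCharacter.conj_inv (isCharacter_linear θ) y
  simp only [map_inv, Units.val_inv_eq_inv_val] at h
  exact h.symm

theorem Geo.theta_orth (θ θ' : G.K →* ℂˣ) :
    ∑ y : G.K, (θ y : ℂ) * (θ' y : ℂ)⁻¹ = if θ = θ' then (k : ℂ) else 0 := by
  have h := Cfsg.Lib.Dual.classInner_ev θ θ'
  rw [classInner_def, G.card_K, inv_mul_eq_iff_eq_mul₀ (by have := G.k_pos; exact_mod_cast (by omega : k ≠ 0))] at h
  simp only [Cfsg.Lib.Dual.ev, G.conj_theta] at h
  rw [h]
  split_ifs <;> simp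

theorem Geo.theta_sum {θ : G.K →* ℂˣ} (h : θ ≠ 1) : ∑ y : G.K, (θ y : ℂ) = 0 := by
  simpa [h] using G.theta_orth θ 1

theorem Geo.inv_ne_one {θ : G.K →* ℂˣ} (h : θ ≠ 1) : θ⁻¹ ≠ 1 := fun e => h (MonoidHom.ext fun y => by
  have := congrArg (fun f : G.K →* ℂˣ => f y) e
  simpa [MonoidHom.inv_apply] using this)

theorem Geo.inner_F_F {θ θ' : G.K →* ℂˣ} (h : θ ≠ 1) (h' : θ' ≠ 1) (b b' : Bool) :
    classInner (G.F θ b) (G.F θ' b') =
      if b = b' then 2 + (if θ = θ' then 1 else 0) + (if θ = θ'⁻¹ then 1 else 0) else 0 := by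
  have hk : (k : ℂ) ≠ 0 := by have := G.k_pos; exact_mod_cast (by omega : k ≠ 0)
  have e : ∀ y : G.K, ((θ y : ℂ) - 1) * (conj (G.F θ' b' y) + bs b * conj (G.F θ' b' (G.v * y))) =
      (1 + bs b * bs b') * ((θ y : ℂ) * (θ' y : ℂ)⁻¹ + (θ y : ℂ) * (θ'⁻¹ y : ℂ)⁻¹ - 2 * (θ y : ℂ)
        - ((θ'⁻¹ y : ℂ) + (θ' y : ℂ) - 2)) := fun y => by
    rw [G.F_K, G.F_vK, map_mul, conj_bs, Geo.D, map_sub, map_add, map_inv₀, G.conj_theta, inv_inv, map_ofNat,
      MonoidHom.inv_apply, Units.val_inv_eq_inv_val, inv_inv]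
    ring
  rw [G.inner_F θ b (G.class_F θ' b'), Finset.sum_congr rfl fun y _ => e y, ← Finset.mul_sum,
    Finset.sum_sub_distrib, Finset.sum_sub_distrib, Finset.sum_add_distrib, G.theta_orth, G.theta_orth,
    ← Finset.mul_sum, G.theta_sum h, Finset.sum_sub_distrib, Finset.sum_add_distrib, G.theta_sum h',
    G.theta_sum (G.inv_ne_one h'), Finset.sum_const, Finset.card_univ, ← Nat.card_eq_fintype_card, G.card_K,
    nsmul_eq_mul]
  cases b <;> cases b' <;> simp [bs] <;> split_ifs <;> field_simp <;> ring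

theorem Geo.inv_ne {θ : G.K →* ℂˣ} (h : θ ≠ 1) : θ⁻¹ ≠ θ := fun e => h (MonoidHom.ext fun y => by
  have h2 : θ y * θ y = 1 := by
    nth_rw 1 [← e]
    rw [MonoidHom.inv_apply, inv_mul_cancel]
  have hk : θ y ^ k = 1 := by
    rw [← map_pow, show y ^ k = 1 from Subtype.ext (by simpa using G.pow_k y.2), map_one]
  exact eq_one_of_odd_pow G.k_odd h2 hk)

end Cfsg.Lib.Ree.PSL
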